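import Groth.Agent.Lib.CurveDuality
import Groth.Agent.RefX.Reflexive
import Groth.Agent.KFlatLib.Scheme.Exact
import Groth.Agent.QCoh.LocFree
import Groth.Agent.QCoh.HHExact

/-!
Sheaf Hom out of a vector bundle: exactness, local freeness, and the trace pairing; extensions
without maps from the sub to the quotient split when the dualizing module is trivial.
-/

set_option linter.style.haveILetI false
set_option linter.unusedSectionVars false
set_option backward.isDefEq.respectTransparency false
set_option backward.isDefEq.respectTransparency.types false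

universe u

open CategoryTheory CategoryTheory.Limits AlgebraicGeometry TopologicalSpace Opposite

noncomputable section

namespace Groth.Agent.CurveHom

open RefHull

variable {X : Scheme.{u}} {A B C : X.Modules}

theorem stalkMapₗ_eq (φ : A ⟶ C) (x : X) (v : A.presheaf.stalk x) :
    stalkMapₗ φ x v = (DerSch.stalkFunctor X x).map φ v := rfl

theorem stalkMapₗ_comp (φ : A ⟶ B) (ψ : B ⟶ C) (x : X) (v : A.presheaf.stalk x) :
    stalkMapₗ (φ ≫ ψ) x v = stalkMapₗ ψ x (stalkMapₗ φ x v) := by
  obtain ⟨U, hx, m, rfl⟩ := TopCat.Presheaf.exists_germ_eq A.presheaf v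
  rw [stalkMapₗ_germ, stalkMapₗ_germ, stalkMapₗ_germ]
  rfl

/-- A morphism vanishing on all stalks is zero. -/
theorem eq_zero_of_stalk (φ : A ⟶ C) (h : ∀ x v, stalkMapₗ φ x v = 0) : φ = 0 :=
  Scheme.Modules.hom_ext _ _ fun U => by
    ext s
    refine ZClosLib.section_ext C _ _ fun y hy => ?_
    rw [← stalkMapₗ_germ φ y hy, h]
    exact (map_zero _).symm

/-- Functoriality of sheaf Hom in the second variable. -/
def homMap (B : X.Modules) (f : A ⟶ C) : homSh B A ⟶ homSh B C :=
  ⟨PresheafOfModules.homMk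
    { app := fun U => AddCommGrpCat.ofHom
        { toFun := fun g => ⟨fun y => (stalkMapₗ f y.1).comp (g.1 y), fun V i m y => by
            obtain ⟨W, hW, j, n, w⟩ := isLocSect_of_mem g V i m y
            refine ⟨W, hW, j, f.app W n, fun z => ?_⟩
            rw [LinearMap.comp_apply, w z, stalkMapₗ_germ]⟩
          map_zero' := Subtype.ext <| funext fun y => LinearMap.comp_zero _
          map_add' := fun g g' => Subtype.ext <| funext fun y => LinearMap.comp_add _ _ _ }
      naturality := fun {U V} i => by ext g; rfl }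
    (fun U r g => Subtype.ext <| funext fun y => LinearMap.comp_smul _ _ _)⟩

theorem homMap_app {U : X.Opens} (f : A ⟶ C) (g : Γ(homSh B A, U)) (y : U) :
    ((homMap B f).app U g).1 y = (stalkMapₗ f y.1).comp (g.1 y) := rfl

theorem evalStalk_homMap (f : A ⟶ C) (x : X) (t : (homSh B A).presheaf.stalk x) :
    evalStalk B C x (stalkMapₗ (homMap B f) x t) = (stalkMapₗ f x).comp (evalStalk B A x t) := by
  obtain ⟨U, hx, g, rfl⟩ := TopCat.Presheaf.exists_germ_eq (homSh B A).presheaf t
  rw [stalkMapₗ_germ, evalStalk_germ, evalStalk_germ]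
  rfl

theorem isFP_of_free (hB : FlatMod.IsFinLocFree B) : CohB1.IsFP B := (QCoh.isFinLocFree_iff.1 hB).1

/-- Sheaf Hom out of a bundle is exact. -/
theorem shortExact_homMap (hB : FlatMod.IsFinLocFree B) {S : ShortComplex X.Modules} (hS : S.ShortExact) :
    ∃ w, (ShortComplex.mk (homMap B S.f) (homMap B S.g) w).ShortExact := by
  have hB' := isFP_of_free hB
  have key := fun x => (KFlatLib.shortExact_iff_stalk S).1 hS x
  have hinj : ∀ x, Function.Injective (stalkMapₗ S.f x) := fun x => by
    haveI := (key x).mono_f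
    exact (ModuleCat.mono_iff_injective _).1 this
  have hsurj : ∀ x, Function.Surjective (stalkMapₗ S.g x) := fun x => by
    haveI := (key x).epi_g
    exact (ModuleCat.epi_iff_surjective _).1 this
  have hex : ∀ x, ∀ v, stalkMapₗ S.g x v = 0 → ∃ u, stalkMapₗ S.f x u = v := fun x v hv =>
    (ShortComplex.moduleCat_exact_iff _).1 (key x).exact v hv
  have hzero : ∀ x u, stalkMapₗ S.g x (stalkMapₗ S.f x u) = 0 := fun x u => by
    rw [← stalkMapₗ_comp, S.zero, stalkMapₗ_eq, Functor.map_zero]
    rfl
  have w : homMap B S.f ≫ homMap B S.g = 0 := eq_zero_of_stalk _ fun x t => by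
    refine (RefX.evalStalk_bijective hB' x).1 ?_
    rw [map_zero, stalkMapₗ_comp, evalStalk_homMap, evalStalk_homMap]
    exact LinearMap.ext fun b => hzero x _
  refine ⟨w, (KFlatLib.shortExact_iff_stalk _).2 fun x => ?_⟩
  haveI := QCoh.free_stalk_of_isFinLocFree hB x
  refine ShortComplex.ShortExact.mk' ((ShortComplex.moduleCat_exact_iff _).2 fun t ht => ?_)
    ((ModuleCat.mono_iff_injective _).2 fun t t' htt => ?_) ((ModuleCat.epi_iff_surjective _).2 fun t => ?_)
  · have h0 : ∀ b, stalkMapₗ S.g x (evalStalk B S.X₂ x t b) = 0 := fun b => by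
      have h1 := LinearMap.congr_fun
        ((congrArg (evalStalk B S.X₃ x) (show stalkMapₗ (homMap B S.g) x t = 0 from ht)).trans (map_zero _)) b
      rwa [evalStalk_homMap] at h1
    let bs := Module.Free.chooseBasis (X.presheaf.stalk x) (B.presheaf.stalk x)
    choose u hu using fun i => hex x _ (h0 (bs i))
    obtain ⟨s, hs⟩ := (RefX.evalStalk_bijective (G := S.X₁) hB' x).2 (bs.constr ℕ u)
    refine ⟨s, (RefX.evalStalk_bijective hB' x).1 ?_⟩
    refine (evalStalk_homMap S.f x s).trans (bs.ext fun i => ?_)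
    rw [LinearMap.comp_apply, hs, Module.Basis.constr_basis, hu]
  · refine (RefX.evalStalk_bijective hB' x).1 (LinearMap.ext fun b => hinj x ?_)
    have h1 := LinearMap.congr_fun ((evalStalk_homMap S.f x t).symm.trans
      ((congrArg (evalStalk B S.X₂ x) htt).trans (evalStalk_homMap S.f x t'))) b
    exact h1
  · let bs := Module.Free.chooseBasis (X.presheaf.stalk x) (B.presheaf.stalk x)
    choose u hu using fun i => hsurj x (evalStalk B S.X₃ x t (bs i))
    obtain ⟨s, hs⟩ := (RefX.evalStalk_bijective (G := S.X₂) hB' x).2 (bs.constr ℕ u)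
    refine ⟨s, (RefX.evalStalk_bijective hB' x).1 ?_⟩
    refine (evalStalk_homMap S.g x s).trans (bs.ext fun i => ?_)
    rw [LinearMap.comp_apply, hs, Module.Basis.constr_basis, hu]

/-- Sheaf Hom of bundles is a bundle. -/
theorem isFinLocFree_homSh [IsLocallyNoetherian X] (hB : FlatMod.IsFinLocFree B)
    (hA : FlatMod.IsFinLocFree A) : FlatMod.IsFinLocFree (homSh B A) := by
  refine QCoh.isFinLocFree_iff.2 ⟨QCoh.isCoh_iff_isFP.1 (RefX.isCoh_homSh
    (CurveDeg.isCoh_of_isFinLocFree hB) (CurveDeg.isCoh_of_isFinLocFree hA)), fun x => ?_⟩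
  haveI := QCoh.free_stalk_of_isFinLocFree hB x
  haveI := QCoh.free_stalk_of_isFinLocFree hA x
  haveI := CurveBundle.finite_stalk_of_coh (CurveDeg.isCoh_of_isFinLocFree hB) x
  haveI := CurveBundle.finite_stalk_of_coh (CurveDeg.isCoh_of_isFinLocFree hA) x
  exact Module.Free.of_equiv
    (LinearEquiv.ofBijective (evalStalk B A x) (RefX.evalStalk_bijective (isFP_of_free hB) x)).symm

/-- The morphism given by a global section of sheaf Hom. -/
def toHom (g : Γ(homSh B A, ⊤)) : B ⟶ A :=
  ⟨PresheafOfModules.homMk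
    { app := fun U => AddCommGrpCat.ofHom
        { toFun := RefX.app (U := (⊤ : X.Opens)) (V := U.unop) le_top g
          map_zero' := ZClosLib.section_ext A _ _ fun y hy => by
            rw [RefX.germ_app, map_zero, map_zero, map_zero]
          map_add' := RefX.app_add le_top g }
      naturality := fun {U V} i => by
        ext m
        exact (RefX.res_app le_top i.unop.le g m).symm }
    (fun U r m => RefX.app_smul le_top g r m)⟩

theorem stalkMapₗ_toHom (g : Γ(homSh B A, ⊤)) (x : X) (v : B.presheaf.stalk x) :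
    stalkMapₗ (toHom g) x v = g.1 ⟨x, trivial⟩ v := by
  obtain ⟨U, hx, m, rfl⟩ := TopCat.Presheaf.exists_germ_eq B.presheaf v
  rw [stalkMapₗ_germ]
  exact RefX.germ_app le_top g m hx

/-- An extension whose Hom bundle has no first cohomology splits. -/
theorem isSplitEpi_of_HH_one {S : ShortComplex X.Modules} (hS : S.ShortExact)
    (hB : FlatMod.IsFinLocFree S.X₃) (h : Subsingleton (Coh.HH X (homSh S.X₃ S.X₁) 1)) :
    IsSplitEpi S.g := by
  obtain ⟨w, hT⟩ := shortExact_homMap hB hS
  obtain ⟨g, hg⟩ := QCoh.app_top_surjective_of_HH_one hT h (ofHom (𝟙 S.X₃) ⊤)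
  refine IsSplitEpi.mk' ⟨toHom g, sub_eq_zero.1 (eq_zero_of_stalk _ fun x v => ?_)⟩
  have h1 : ((homMap S.X₃ S.g).app ⊤ g).1 ⟨x, trivial⟩ = (ofHom (𝟙 S.X₃) ⊤).1 ⟨x, trivial⟩ :=
    congrArg (fun z : Γ(homSh S.X₃ S.X₃, ⊤) => z.1 ⟨x, trivial⟩) hg
  have h2 := LinearMap.congr_fun h1 v
  rw [homMap_app, LinearMap.comp_apply, ofHom_apply] at h2
  show stalkMapₗ (toHom g ≫ S.g - 𝟙 S.X₃) x v = 0
  rw [stalkMapₗ_eq, Functor.map_sub]
  show (DerSch.stalkFunctor X x).map (toHom g ≫ S.g) v - (DerSch.stalkFunctor X x).map (𝟙 S.X₃) v = 0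
  rw [← stalkMapₗ_eq, ← stalkMapₗ_eq, stalkMapₗ_comp, stalkMapₗ_toHom, h2, sub_self]

/-- The rank one operator attached to a form on `B` and a section of `A`. -/
def rankOne {U : X.Opens} (θ : Γ(dual B, U)) (a : Γ(A, U)) : Γ(homSh B A, U) :=
  ⟨fun y => LinearMap.smulRight ((RefX.unitStalk y.1).symm.toLinearMap ∘ₗ θ.1 y)
      (A.presheaf.germ U y.1 y.2 a), fun V i m y => by
    let c : Γ(X, V) := RefX.app i.le θ m
    refine ⟨V, y.2, 𝟙 V, c • AModX.res A i.le a, fun z => ?_⟩
    rw [Mero.germ_smul, RefX.germ_res, LinearMap.smulRight_apply, LinearMap.comp_apply]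
    congr 1
    show (RefX.unitStalk z.1).symm _ = _
    rw [LinearEquiv.symm_apply_eq, ← RefX.germ_app i.le θ m z.2]
    show _ = X.presheaf.germ V z.1 z.2 c •
      (Coh.structureModule X).presheaf.germ ⊤ z.1 trivial
        (show Γ(Coh.structureModule X, ⊤) from (1 : Γ(X, ⊤)))
    rw [← TopCat.Presheaf.germ_res_apply (Coh.structureModule X).presheaf (homOfLE (le_top : V ≤ ⊤)) z.1 z.2,
      ← Mero.germ_smul]
    refine congrArg ((Coh.structureModule X).presheaf.germ V z.1 z.2) ?_
    show c = c * X.presheaf.map (homOfLE (le_top : V ≤ ⊤)).op 1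
    rw [map_one, mul_one]⟩

/-- The linear forms on the dual given by a section through a trace pairing. -/
def pairAt (hB : CohB1.IsFP B) (φ : homSh B A ⟶ Coh.structureModule X) (x : X)
    (v : A.presheaf.stalk x) : StalkHom (dual B) (Coh.structureModule X) x :=
  (stalkMapₗ φ x) ∘ₗ
    (LinearEquiv.ofBijective (evalStalk B A x) (RefX.evalStalk_bijective hB x)).symm.toLinearMap ∘ₗ
    (LinearMap.smulRightₗ.flip v) ∘ₗ
    (LinearMap.compRight (X.presheaf.stalk x) (RefX.unitStalk x).symm.toLinearMap) ∘ₗ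
    (evalStalk B (Coh.structureModule X) x)

theorem pairAt_germ (hB : CohB1.IsFP B) (φ : homSh B A ⟶ Coh.structureModule X) {U : X.Opens} (x : X)
    (hx : x ∈ U) (a : Γ(A, U)) (θ : Γ(dual B, U)) :
    pairAt hB φ x (A.presheaf.germ U x hx a) ((dual B).presheaf.germ U x hx θ) =
      (Coh.structureModule X).presheaf.germ U x hx (φ.app U (rankOne θ a)) := by
  rw [← stalkMapₗ_germ]
  show stalkMapₗ φ x _ = _
  refine congrArg (stalkMapₗ φ x) ((LinearEquiv.symm_apply_eq _).2 ?_)
  rw [LinearEquiv.ofBijective_apply, evalStalk_germ]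
  show LinearMap.smulRight ((RefX.unitStalk x).symm.toLinearMap ∘ₗ evalStalk B _ x _) _ = _
  rw [evalStalk_germ]
  rfl

theorem pairAt_add (hB : CohB1.IsFP B) (φ : homSh B A ⟶ Coh.structureModule X) (x : X)
    (v w : A.presheaf.stalk x) : pairAt hB φ x (v + w) = pairAt hB φ x v + pairAt hB φ x w := by
  simp only [pairAt, map_add, LinearMap.add_comp, LinearMap.comp_add]

theorem pairAt_smul (hB : CohB1.IsFP B) (φ : homSh B A ⟶ Coh.structureModule X) (x : X)
    (r : X.presheaf.stalk x) (v : A.presheaf.stalk x) : pairAt hB φ x (r • v) = r • pairAt hB φ x v := by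
  simp only [pairAt, map_smul, LinearMap.smul_comp, LinearMap.comp_smul]

/-- The map to the bidual given by a trace pairing. -/
def pairHom (hB : CohB1.IsFP B) (φ : homSh B A ⟶ Coh.structureModule X) : A ⟶ ddual B :=
  ⟨PresheafOfModules.homMk
    { app := fun U => AddCommGrpCat.ofHom
        { toFun := fun a => ⟨fun y => pairAt hB φ y.1 (A.presheaf.germ U.unop y.1 y.2 a), fun V i θ y => by
            refine ⟨V, y.2, 𝟙 V, φ.app V (rankOne θ (AModX.res A i.le a)), fun z => ?_⟩
            rw [← pairAt_germ hB φ z.1 z.2 (AModX.res A i.le a) θ, RefX.germ_res]⟩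
          map_zero' := Subtype.ext <| funext fun y => by
            show pairAt hB φ y.1 _ = 0
            rw [map_zero, ← zero_smul (X.presheaf.stalk y.1) (0 : A.presheaf.stalk y.1), pairAt_smul,
              zero_smul]
          map_add' := fun a a' => Subtype.ext <| funext fun y => by
            show pairAt hB φ y.1 _ = _
            rw [map_add, pairAt_add]
            rfl }
      naturality := fun {U V} i => by
        ext a
        refine Subtype.ext (funext fun y => ?_)
        exact congrArg (pairAt hB φ y.1) (TopCat.Presheaf.germ_res_apply' A.presheaf i y.1 y.2 a) }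
    (fun U r a => Subtype.ext <| funext fun y =>
      (congrArg (pairAt hB φ y.1) (Mero.germ_smul A U.unop y.1 y.2 r a)).trans (pairAt_smul hB φ y.1 _ _))⟩

/-- Trace duality: without maps from `A` to `B`, no maps from `Hom(B, A)` to the structure sheaf. -/
theorem eq_zero_of_hom_eq_zero [IsLocallyNoetherian X] (hB : FlatMod.IsFinLocFree B)
    (h : ∀ f : A ⟶ B, f = 0) (φ : homSh B A ⟶ Coh.structureModule X) : φ = 0 := by
  have hB' := isFP_of_free hB
  have hBc := CurveDeg.isCoh_of_isFinLocFree hB
  haveI : IsIso (bidualMap B) := (RefX.isReflexive_iff hBc).2 fun x => by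
    haveI := QCoh.free_stalk_of_isFinLocFree hB x
    haveI := CurveBundle.finite_stalk_of_coh hBc x
    exact (inferInstance : Module.IsReflexive (X.presheaf.stalk x) (B.presheaf.stalk x))
  have hp : pairHom hB' φ = 0 := by
    have h1 := congrArg (· ≫ bidualMap B) (h (pairHom hB' φ ≫ inv (bidualMap B)))
    simpa using h1
  have hp' : ∀ x v, pairAt hB' φ x v = 0 := fun x v => by
    obtain ⟨U, hx, a, rfl⟩ := TopCat.Presheaf.exists_germ_eq A.presheaf v
    exact congrArg (fun z : Γ(ddual B, U) => z.1 ⟨x, hx⟩)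
      (congrArg (fun f : A ⟶ ddual B => f.app U a) hp)
  refine eq_zero_of_stalk φ fun x t => ?_
  haveI := QCoh.free_stalk_of_isFinLocFree hB x
  haveI := CurveBundle.finite_stalk_of_coh hBc x
  let bs := Module.Free.chooseBasis (X.presheaf.stalk x) (B.presheaf.stalk x)
  let e := LinearEquiv.ofBijective (evalStalk B A x) (RefX.evalStalk_bijective hB' x)
  have ht : evalStalk B A x t =
      ∑ i, LinearMap.smulRight (bs.coord i) (evalStalk B A x t (bs i)) := bs.ext fun j => by
    simp [LinearMap.sum_apply, Finsupp.single_apply]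
  rw [← e.symm_apply_apply t, show e t = evalStalk B A x t from rfl, ht, map_sum, map_sum]
  refine Finset.sum_eq_zero fun i _ => ?_
  obtain ⟨θ, hθ⟩ := (RefX.dualStalk hB' x).surjective (bs.coord i)
  have h1 := LinearMap.congr_fun (hp' x (evalStalk B A x t (bs i))) θ
  rw [← hθ]
  exact h1

variable (k : Type u) [Field k] [X.Over (Spec (CommRingCat.of k))] [IsIntegral X]
  [IsProper (X ↘ Spec (CommRingCat.of k))] [Smooth (X ↘ Spec (CommRingCat.of k))]
  {ω : X.Modules} {μ : Coh.HH X ω 1 →ₗ[k] k}

/-- With trivial dualizing module, an extension without maps from the sub to the quotient splits. -/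
theorem isSplitEpi_of_hom_eq_zero (hω : CurveDuality.IsDualizing k ω μ) (e : Coh.structureModule X ≅ ω)
    (hdim : topologicalKrullDim X = 1) {S : ShortComplex X.Modules} (hS : S.ShortExact)
    (h₁ : FlatMod.IsFinLocFree S.X₁) (h₃ : FlatMod.IsFinLocFree S.X₃) (h : ∀ f : S.X₁ ⟶ S.X₃, f = 0) :
    IsSplitEpi S.g := by
  haveI := CurveSlope.isLocallyNoetherian' k (X := X)
  refine isSplitEpi_of_HH_one hS h₃ ((CurveDuality.subsingleton_HH_one_iff k hω hdim
    (isFinLocFree_homSh h₃ h₁)).2 fun φ => ?_)
  rw [← cancel_mono e.inv, zero_comp]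
  exact eq_zero_of_hom_eq_zero h₃ h _

end Groth.Agent.CurveHom
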