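import Groth.Prelude.Def_Canon
import Groth.Agent.OmegaUniv.Unram
import Groth.Agent.QCoh.LocFree
import Groth.Agent.QCoh.ClosedPush
import Groth.Agent.InvX.Tensor
import Groth.Agent.Lib.CurveBundle
import Mathlib.LinearAlgebra.ExteriorPower.Basic
import Mathlib.LinearAlgebra.Determinant
import Mathlib.RingTheory.Smooth.StandardSmoothCotangent
import Mathlib.AlgebraicGeometry.Morphisms.Smooth

/-! Top exterior powers of finite locally free modules are invertible. -/

set_option linter.style.haveILetI false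
set_option backward.isDefEq.respectTransparency false
set_option backward.isDefEq.respectTransparency.types false

universe u v

open CategoryTheory CategoryTheory.Limits AlgebraicGeometry TopologicalSpace Opposite

noncomputable section

namespace Groth.Agent.TopDiff

theorem bijective_ιMulti_basis {R : Type u} [CommRing R] {M : Type u} [AddCommGroup M] [Module R M] {n : ℕ}
    (b : Module.Basis (Fin n) R M) :
    Function.Bijective fun r : R => r • exteriorPower.ιMulti R n b := by
  let φ : ⋀[R]^n M →ₗ[R] R := exteriorPower.alternatingMapLinearEquiv b.det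
  have hφ : φ (exteriorPower.ιMulti R n b) = 1 := by
    rw [exteriorPower.alternatingMapLinearEquiv_apply_ιMulti, b.det_self]
  refine ⟨fun r r' h => ?_, fun z => ⟨φ z, ?_⟩⟩
  · have := congrArg φ h
    simpa [hφ] using this
  · refine LinearMap.congr_fun (f := LinearMap.smulRight φ (exteriorPower.ιMulti R n b)) (g := LinearMap.id) ?_ z
    refine exteriorPower.linearMap_ext (b.ext_alternating fun v hv => ?_)
    let σ : Equiv.Perm (Fin n) := Equiv.ofBijective v (Finite.injective_iff_bijective.1 hv)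
    show LinearMap.smulRight φ (exteriorPower.ιMulti R n b) (exteriorPower.ιMulti R n (b ∘ σ)) =
      exteriorPower.ιMulti R n (b ∘ σ)
    rw [LinearMap.smulRight_apply, exteriorPower.alternatingMapLinearEquiv_apply_ιMulti,
      AlternatingMap.map_perm, AlternatingMap.map_perm, b.det_self]
    simp

theorem basis_of_unique {R : Type u} [CommRing R] {M : Type u} [AddCommGroup M] [Module R M] {n : ℕ}
    (v : Fin n → M) (h : Function.Bijective fun c : Fin n → R => ∑ i, c i • v i) :
    ∃ b : Module.Basis (Fin n) R M, ⇑b = v := by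
  classical
  let l : (Fin n → R) →ₗ[R] M := Fintype.linearCombination R v
  have hl : Function.Bijective l := by
    convert h using 1
    funext c
    exact Fintype.linearCombination_apply R v c
  refine ⟨(Pi.basisFun R (Fin n)).map (LinearEquiv.ofBijective l hl), funext fun i => ?_⟩
  show l (Pi.basisFun R (Fin n) i) = v i
  rw [Pi.basisFun_apply, Fintype.linearCombination_apply_single, one_smul]

variable {X : Scheme.{u}} {E L : X.Modules}

theorem restrict_smul (M : X.Modules) (U : X.Opens) (W : (U : Scheme.{u}).Opens) (r : Γ((U : Scheme.{u}), W))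
    (x : Γ(M.restrict (Scheme.Opens.ι U), W)) :
    r • x = (show Γ(X, (Scheme.Opens.ι U) ''ᵁ W) from r) • (show Γ(M, (Scheme.Opens.ι U) ''ᵁ W) from x) := by
  show ((Scheme.Opens.ι U).appIso W).inv r • (show Γ(M, (Scheme.Opens.ι U) ''ᵁ W) from x) = _
  rw [Scheme.Opens.ι_appIso]
  rfl

/-- A free open carries sections restricting to bases. -/
theorem exists_bases {U : X.Opens} {n : ℕ} (e : E.restrict (Scheme.Opens.ι U) ≅ FlatMod.freeMod (U : Scheme.{u}) n) :
    ∃ b : Fin n → Γ(E, U), ∀ (W : X.Opens) (h : W ≤ U),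
      Function.Bijective fun c : Fin n → Γ(X, W) => ∑ i, c i • AModX.res E h (b i) := by
  classical
  haveI : HasFiniteBiproducts (U : Scheme.{u}).Modules := Abelian.hasFiniteBiproducts
  let O := Coh.structureModule (U : Scheme.{u})
  let F := E.restrict (Scheme.Opens.ι U)
  let e' : F ≅ ⨁ fun _ : Fin n => O := e ≪≫ (biproduct.isoCoproduct _).symm
  let p : Fin n → (F ⟶ O) := fun i => e'.hom ≫ biproduct.π _ i
  let q : Fin n → (O ⟶ F) := fun i => biproduct.ι (fun _ : Fin n => O) i ≫ e'.inv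
  have hpq : ∀ i j, q i ≫ p j = if i = j then 𝟙 O else 0 := fun i j => by
    simp only [p, q, Category.assoc, Iso.inv_hom_id_assoc]
    split_ifs with h
    · subst h; simp
    · simp [biproduct.ι_π_ne _ h]
  have htot : ∑ i, p i ≫ q i = 𝟙 F := by
    simp only [p, q, Category.assoc]
    rw [← Preadditive.comp_sum]
    conv_lhs => arg 2; arg 2; intro i; rw [← Category.assoc]
    rw [← Preadditive.sum_comp, biproduct.total, Category.id_comp, Iso.hom_inv_id]
  have hU : (Scheme.Opens.ι U) ''ᵁ ⊤ = U := by rw [Scheme.Hom.image_top_eq_opensRange, Scheme.Opens.opensRange_ι]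
  let s : Fin n → Γ(E, (Scheme.Opens.ι U) ''ᵁ ⊤) := fun i => (q i).app ⊤ (1 : Γ((U : Scheme.{u}), ⊤))
  refine ⟨fun i => AModX.res E hU.ge (s i), fun W h => ?_⟩
  have hW : (Scheme.Opens.ι U) ''ᵁ ((Scheme.Opens.ι U) ⁻¹ᵁ W) = W := by
    rw [Scheme.Hom.image_preimage_eq_opensRange_inf, Scheme.Opens.opensRange_ι, inf_eq_right.2 h]
  have hres : ∀ i (hle : W ≤ (Scheme.Opens.ι U) ''ᵁ ⊤), AModX.res E h (AModX.res E hU.ge (s i)) = AModX.res E hle (s i) :=
    fun i hle => AModX.res_res _ _ _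
  simp only [fun i => hres i (h.trans hU.ge)]
  suffices key : ∀ (W' : (U : Scheme.{u}).Opens) (hle : (Scheme.Opens.ι U) ''ᵁ W' ≤ (Scheme.Opens.ι U) ''ᵁ ⊤),
      Function.Bijective fun c : Fin n → Γ(X, (Scheme.Opens.ι U) ''ᵁ W') => ∑ i, c i • AModX.res E hle (s i) from
    (fun (W₀ : X.Opens) (e₀ : (Scheme.Opens.ι U) ''ᵁ ((Scheme.Opens.ι U) ⁻¹ᵁ W) = W₀) => by
      subst e₀
      exact fun hle => key _ hle : ∀ W₀ (_ : (Scheme.Opens.ι U) ''ᵁ ((Scheme.Opens.ι U) ⁻¹ᵁ W) = W₀) (hle : W₀ ≤ (Scheme.Opens.ι U) ''ᵁ ⊤),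
        Function.Bijective fun c : Fin n → Γ(X, W₀) => ∑ i, c i • AModX.res E hle (s i)) W hW _
  intro W' hle
  have hs : ∀ i, AModX.res E hle (s i) = (q i).app W' (1 : Γ((U : Scheme.{u}), W')) := fun i => by
    refine ((QCoh.map_app_comm (q i) (homOfLE (le_top : W' ≤ ⊤)) (1 : Γ((U : Scheme.{u}), ⊤))).symm.trans
      (congrArg _ (map_one ((U : Scheme.{u}).presheaf.map (homOfLE (le_top : W' ≤ ⊤)).op).hom)))
  have hq : ∀ i (c : Γ((U : Scheme.{u}), W')), (q i).app W' c =
      (show Γ(X, (Scheme.Opens.ι U) ''ᵁ W') from c) • (show Γ(E, (Scheme.Opens.ι U) ''ᵁ W') from (q i).app W' (1 : Γ((U : Scheme.{u}), W'))) :=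
    fun i c => by
    have h2 : @Eq (Γ((U : Scheme.{u}), W')) (c • (1 : Γ((U : Scheme.{u}), W'))) c := mul_one c
    refine (congrArg (fun z : Γ((U : Scheme.{u}), W') => (q i).app W' z) h2).symm.trans ?_
    exact ((q i).app_smul c (show Γ(O, W') from (1 : Γ((U : Scheme.{u}), W')))).trans (restrict_smul E U W' c _)
  have key : ∀ (c : Fin n → Γ(X, (Scheme.Opens.ι U) ''ᵁ W')) j,
      (p j).app W' (∑ i, c i • AModX.res E hle (s i) : Γ(F, W')) = c j := fun c j => by
    rw [map_sum, Finset.sum_eq_single j]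
    · rw [hs, ← hq j (c j), ← ConcreteCategory.comp_apply, ← Scheme.Modules.Hom.comp_app, hpq, if_pos rfl]
      rfl
    · intro i _ hij
      rw [hs, ← hq i (c i), ← ConcreteCategory.comp_apply, ← Scheme.Modules.Hom.comp_app, hpq, if_neg hij]
      rfl
    · exact fun h => absurd (Finset.mem_univ j) h
  refine ⟨fun c c' hcc => funext fun j => ?_, fun x => ⟨fun i => (p i).app W' (show Γ(F, W') from x), ?_⟩⟩
  · rw [← key c j, ← key c' j]
    exact congrArg _ hcc
  · have h1 := congrArg (fun φ : F ⟶ F => φ.app W' (show Γ(F, W') from x)) htot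
    refine Eq.trans ?_ h1
    let A : (F ⟶ F) →+ Γ(F, W') := AddMonoidHom.mk' (fun φ => φ.app W' (show Γ(F, W') from x)) fun _ _ => rfl
    refine Eq.trans ?_ (map_sum A _ _).symm
    refine Finset.sum_congr rfl fun i _ => ?_
    rw [hs]
    exact (hq i _).symm

set_option maxHeartbeats 800000 in
/-- The top exterior power of a bundle is invertible. -/
theorem isInvertible_of_isExtPow {n : ℕ} (hE : FlatMod.IsFinLocFreeOfRank n E) (hL : ExtPow.IsExtPow n E L) :
    PicF.IsInvertible L := by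
  classical
  obtain ⟨φ, hφ⟩ := hL
  intro x
  obtain ⟨U₀, hx, ⟨e₀⟩⟩ := hE x
  obtain ⟨b₀, hb₀⟩ := exists_bases e₀
  obtain ⟨_, ⟨U, hU, rfl⟩, hxU, hle⟩ :=
    X.isBasis_affineOpens.exists_subset_of_mem_open (show x ∈ U₀ from hx) U₀.2
  let b : Fin n → Γ(E, U) := fun i => AModX.res E hle (b₀ i)
  let s : Γ(L, U) := (φ ⟨U, hU⟩).symm (exteriorPower.ιMulti _ n b)
  have haff : ∀ (W : X.Opens) (hW : IsAffineOpen W) (h : W ≤ U),
      Function.Bijective fun r : Γ(X, W) => r • AModX.res L h s := fun W hW h => by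
    have h1 : AModX.res L h s = (φ ⟨W, hW⟩).symm (exteriorPower.ιMulti _ n fun i => AModX.res E h (b i)) :=
      hφ ⟨U, hU⟩ ⟨W, hW⟩ h b
    obtain ⟨B, hB⟩ := basis_of_unique (R := Γ(X, W)) (fun i => AModX.res E h (b i)) (by
      simp only [b, AModX.res_res]
      exact hb₀ W (h.trans hle))
    have h2 := bijective_ιMulti_basis B
    rw [hB] at h2
    have h3 : (fun r : Γ(X, W) => r • AModX.res L h s) =
        (φ ⟨W, hW⟩).symm ∘ fun r : Γ(X, W) => r • exteriorPower.ιMulti Γ(X, W) n (fun i => AModX.res E h (b i)) :=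
      funext fun r => (congrArg (r • ·) h1).trans (map_smul (φ ⟨W, hW⟩).symm r _).symm
    rw [h3]
    exact (φ ⟨W, hW⟩).symm.bijective.comp h2
  have hU' : (Scheme.Opens.ι U) ''ᵁ ⊤ ≤ U := (Scheme.Opens.opensRange_ι U).le.trans' (Scheme.Hom.image_top_eq_opensRange _).le
  let ψ : Coh.structureModule (U : Scheme.{u}) ⟶ L.restrict (Scheme.Opens.ι U) :=
    QCoh.homOfTop (show Γ(L.restrict (Scheme.Opens.ι U), ⊤) from AModX.res L hU' s)
  haveI : IsIso ψ := QCoh.isIso_of_isBasis ψ (U : Scheme.{u}).isBasis_affineOpens fun W hW => by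
    have hW' : IsAffineOpen ((Scheme.Opens.ι U) ''ᵁ W) := hW.image_of_isOpenImmersion (Scheme.Opens.ι U)
    have hle : (Scheme.Opens.ι U) ''ᵁ W ≤ U := ((Scheme.Opens.ι U).image_mono le_top).trans hU'
    show Function.Bijective fun r : Γ((U : Scheme.{u}), W) => ψ.app W r
    have he : (fun r : Γ((U : Scheme.{u}), W) => ψ.app W r) =
        (fun r : Γ(X, (Scheme.Opens.ι U) ''ᵁ W) => r • AModX.res L hle s) :=
      funext fun r => ((QCoh.homOfTop_app _ _).trans (restrict_smul L U W r _)).trans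
        (congrArg ((show Γ(X, (Scheme.Opens.ι U) ''ᵁ W) from r) • ·)
          (AModX.res_res hU' ((Scheme.Opens.ι U).image_mono le_top) s))
    rw [he]
    exact haff _ hW' hle
  exact ⟨U, hxU, ⟨(asIso ψ).symm⟩⟩

theorem isFinLocFreeOfRank_omega {Y : Scheme.{u}} (f : X ⟶ Y) [QuasiSeparated f] (n : ℕ)
    [SmoothOfRelativeDimension n f] : FlatMod.IsFinLocFreeOfRank n (Omega.sheaf f) := by
  intro x
  obtain ⟨V, hV, U, hU, hx, e, hf⟩ :=
    SmoothOfRelativeDimension.exists_isStandardSmoothOfRelativeDimension (n := n) (f := f) x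
  refine ⟨U, hx, ?_⟩
  letI := (f.appLE V U e).hom.toAlgebra
  haveI hs : Algebra.IsStandardSmoothOfRelativeDimension n Γ(Y, V) Γ(X, U) := hf
  haveI := hs.isStandardSmooth
  haveI : Nonempty U := ⟨⟨x, hx⟩⟩
  haveI : Nontrivial Γ(X, U) := inferInstance
  obtain ⟨l⟩ := Synt29.OmegaStalk.exists_linearEquiv_sections (OmegaUniv.isUniversal_dOmega f) hU hV e
  have hrank := Algebra.IsStandardSmoothOfRelativeDimension.rank_kaehlerDifferential (R := Γ(Y, V)) (S := Γ(X, U)) n
  haveI : Module.Finite Γ(X, U) Ω[Γ(X, U)⁄Γ(Y, V)] := inferInstance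
  have hfr : Module.finrank Γ(X, U) Ω[Γ(X, U)⁄Γ(Y, V)] = n := Module.finrank_eq_of_rank_eq hrank
  let b := (Module.finBasisOfFinrankEq Γ(X, U) Ω[Γ(X, U)⁄Γ(Y, V)] hfr).reindex Equiv.ulift.{u}.symm
  exact QCoh.exists_free_restrict (OmegaUniv.isQCoh_omega f) hU (l.trans b.repr)

/-- The relative canonical module is invertible. -/
theorem isInvertible_of_isTopDiff {Y : Scheme.{u}} (f : X ⟶ Y) [QuasiSeparated f] (n : ℕ)
    [SmoothOfRelativeDimension n f] {ω : X.Modules} (hω : Canon.IsTopDiff f n ω) : PicF.IsInvertible ω :=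
  isInvertible_of_isExtPow (isFinLocFreeOfRank_omega f n) hω

end Groth.Agent.TopDiff
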