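import Groth.Agent.Lib.SectionGamma
import Mathlib.AlgebraicGeometry.Sites.Fpqc
import Groth.Prelude.Def_ClSub2

/-!
# Functions on a proper flat surjective morphism with constant functions on fibres come from the base
-/

set_option autoImplicit false
set_option linter.style.haveILetI false
set_option backward.isDefEq.respectTransparency false
set_option backward.isDefEq.respectTransparency.types false

universe u

open CategoryTheory CategoryTheory.Limits AlgebraicGeometry TopologicalSpace
open Groth.Agent.H23

namespace Groth.Agent.GammaDescent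

variable {X S : Scheme.{u}} (f : X ⟶ S) [IsProper f] [Flat f] [LocallyOfFinitePresentation f] [Surjective f]

/-- Global functions descend. -/
theorem bijective_appTop (h0 : RigidApply.ConstFibres f) : Function.Bijective f.appTop := by
  have hb := SectionGamma.bijective_app (pullback.snd f f) (h0.baseChange f) (pullback.diagonal f)
    (pullback.diagonal_snd f) ⊤
  have heq : (pullback.fst f f).appTop = (pullback.snd f f).appTop := by
    ext h
    obtain ⟨a, ha⟩ := hb.2 ((pullback.fst f f).appTop h)
    have h1 := congrArg (pullback.diagonal f).appTop ha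
    change (pullback.diagonal f).appTop ((pullback.snd f f).appTop a) =
      (pullback.diagonal f).appTop ((pullback.fst f f).appTop h) at h1
    rw [← CommRingCat.comp_apply, ← CommRingCat.comp_apply, ← Scheme.Hom.comp_appTop, ← Scheme.Hom.comp_appTop,
      pullback.diagonal_snd, pullback.diagonal_fst] at h1
    rw [← ha]
    exact congrArg (pullback.snd f f).appTop h1
  have hcond : ∀ {Z : Scheme.{u}} (g₁ g₂ : Z ⟶ X), g₁ ≫ f = g₂ ≫ f → g₁ ≫ X.toSpecΓ = g₂ ≫ X.toSpecΓ := by
    intro Z g₁ g₂ hg
    rw [← pullback.lift_fst g₁ g₂ hg]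
    conv_rhs => rw [← pullback.lift_snd g₁ g₂ hg]
    simp only [Category.assoc]
    rw [Scheme.toSpecΓ_naturality, Scheme.toSpecΓ_naturality, heq]
  let g : S ⟶ Spec Γ(X, ⊤) := EffectiveEpi.desc f X.toSpecΓ hcond
  have hg : f ≫ g = X.toSpecΓ := EffectiveEpi.fac f X.toSpecΓ hcond
  have hg2 : g ≫ Spec.map f.appTop = S.toSpecΓ := by
    rw [← cancel_epi f, reassoc_of% hg, ← Scheme.toSpecΓ_naturality]
  let ρ : Γ(X, ⊤) ⟶ Γ(S, ⊤) := (Scheme.ΓSpecIso Γ(X, ⊤)).inv ≫ g.appTop
  have h1 : ρ ≫ f.appTop = 𝟙 _ := by
    show ((Scheme.ΓSpecIso _).inv ≫ g.appTop) ≫ f.appTop = 𝟙 _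
    rw [Category.assoc, ← Scheme.Hom.comp_appTop, hg, Scheme.toSpecΓ_appTop, Iso.inv_hom_id]
  have h2 : f.appTop ≫ ρ = 𝟙 _ := by
    show f.appTop ≫ (Scheme.ΓSpecIso _).inv ≫ g.appTop = 𝟙 _
    rw [← Category.assoc, Scheme.ΓSpecIso_inv_naturality, Category.assoc, ← Scheme.Hom.comp_appTop, hg2,
      Scheme.toSpecΓ_appTop, Iso.inv_hom_id]
  haveI : IsIso f.appTop := ⟨ρ, h2, h1⟩
  exact ConcreteCategory.bijective_of_isIso f.appTop

omit [IsProper f] [Flat f] [LocallyOfFinitePresentation f] [Surjective f] in
/-- Constant functions on fibres are invariant under isomorphisms of the source. -/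
theorem constFibres_iso_comp (h : RigidApply.ConstFibres f) {Y : Scheme.{u}} (e : Y ≅ X) :
    RigidApply.ConstFibres (e.hom ≫ f) := fun s => by
  have hs := h s
  let a := S.fromSpecResidueField s
  let e' : pullback (e.hom ≫ f) a ≅ pullback f a :=
    (pullbackRightPullbackFstIso f a e.hom).symm ≪≫ asIso (pullback.snd e.hom (pullback.fst f a))
  have he : pullback.snd (e.hom ≫ f) a = e'.hom ≫ pullback.snd f a := by
    simp [e', pullbackRightPullbackFstIso_inv_snd_snd]
  rw [he, Scheme.Hom.comp_appTop]
  exact (ConcreteCategory.bijective_of_isIso e'.hom.appTop).comp hs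

/-- `f_* O = O`. -/
theorem bijective_app (h0 : RigidApply.ConstFibres f) (W : S.Opens) : Function.Bijective (f.app W) := by
  haveI : IsProper (f ∣_ W) := IsZariskiLocalAtTarget.restrict (P := @IsProper) inferInstance W
  haveI : Flat (f ∣_ W) := IsZariskiLocalAtTarget.restrict (P := @Flat) inferInstance W
  haveI : LocallyOfFinitePresentation (f ∣_ W) := IsZariskiLocalAtTarget.restrict (P := @LocallyOfFinitePresentation) inferInstance W
  haveI : Surjective (f ∣_ W) := IsZariskiLocalAtTarget.restrict (P := @Surjective) inferInstance W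
  have hc : RigidApply.ConstFibres (f ∣_ W) := by
    have e := (isPullback_morphismRestrict f W).flip
    have h := h0.baseChange W.ι
    rw [← e.isoPullback_hom_snd]
    exact constFibres_iso_comp _ h e.isoPullback
  have h1 := bijective_appTop (f ∣_ W) hc
  have e2 := morphismRestrict_app f W ⊤
  rw [Scheme.Hom.appTop, e2] at h1
  have hb : Function.Bijective (f.app (W.ι ''ᵁ ⊤)) :=
    (Function.Bijective.of_comp_iff' (ConcreteCategory.bijective_of_isIso
      (X.presheaf.map (eqToHom (image_morphismRestrict_preimage f W ⊤)).op)) _).1 h1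
  rwa [W.ι_image_top] at hb

theorem isIso_unitToPush (h0 : RigidApply.ConstFibres f) : IsIso (ClSub.unitToPush f) := by
  rw [Scheme.Modules.Hom.isIso_iff_isIso_app]
  intro W
  exact (ConcreteCategory.isIso_iff_bijective _).2 (bijective_app f h0 W)

end Groth.Agent.GammaDescent
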