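import Groth.Agent.Lib.CurveHomEuler
import Groth.Agent.Lib.CurveDualPrep
import Groth.Agent.S0843
import Groth.Agent.S0844
import Groth.Agent.S0845
import Groth.Agent.S10829
import Groth.Agent.CurveEmbed.P1
import Groth.Agent.CurveEmbed.Conic
import Mathlib.Data.Fin.Tuple.Sort

/-!
Vector bundles on the projective line: every bundle is a sum of twists, uniquely.
-/

set_option linter.style.haveILetI false
set_option linter.unusedSectionVars false
set_option backward.isDefEq.respectTransparency false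
set_option backward.isDefEq.respectTransparency.types false

universe u

open CategoryTheory CategoryTheory.Limits AlgebraicGeometry TopologicalSpace Opposite

noncomputable section

namespace Groth.Agent.P1Bundle

open RefHull CurveHom CurveBundle CurveSlope CurveStable Groth.Agent.CurveDuality
open Groth.Agent.PnCoh.Finite (mapLin)

section General

variable {X : Scheme.{u}}

/-- Lift of a map to the quotient when the obstruction sheaf has no first cohomology. -/
theorem exists_lift {S : ShortComplex X.Modules} (hS : S.ShortExact) {B : X.Modules}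
    (hB : FlatMod.IsFinLocFree B) (g : B ⟶ S.X₃) (h : Subsingleton (Coh.HH X (homSh B S.X₁) 1)) :
    ∃ ψ : B ⟶ S.X₂, ψ ≫ S.g = g := by
  obtain ⟨w, hT⟩ := shortExact_homMap hB hS
  obtain ⟨t, ht⟩ := QCoh.app_top_surjective_of_HH_one hT h (ofHom g ⊤)
  refine ⟨toHom t, sub_eq_zero.1 (eq_zero_of_stalk _ fun x v => ?_)⟩
  have h1 : ((homMap B S.g).app ⊤ t).1 ⟨x, trivial⟩ = (ofHom g ⊤).1 ⟨x, trivial⟩ :=
    congrArg (fun z : Γ(homSh B S.X₃, ⊤) => z.1 ⟨x, trivial⟩) ht
  have h2 := LinearMap.congr_fun h1 v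
  rw [homMap_app, LinearMap.comp_apply, ofHom_apply] at h2
  rw [stalkMapₗ_eq, Functor.map_sub]
  show (DerSch.stalkFunctor X x).map (toHom t ≫ S.g) v - (DerSch.stalkFunctor X x).map g v = 0
  rw [← stalkMapₗ_eq, ← stalkMapₗ_eq, stalkMapₗ_comp, stalkMapₗ_toHom, h2, sub_self]

variable [IsIntegral X]

theorem rk_homSh {A B : X.Modules} [IsLocallyNoetherian X] (hB : FlatMod.IsFinLocFree B)
    (hA : FlatMod.IsFinLocFree A) : rk (homSh B A) = rk B * rk A := by
  let η := genericPoint X
  haveI := QCoh.free_stalk_of_isFinLocFree hB η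
  haveI := QCoh.free_stalk_of_isFinLocFree hA η
  haveI := finite_stalk_of_coh (CurveDeg.isCoh_of_isFinLocFree hB) η
  haveI := finite_stalk_of_coh (CurveDeg.isCoh_of_isFinLocFree hA) η
  unfold rk
  rw [(LinearEquiv.ofBijective (evalStalk B A η) (RefX.evalStalk_bijective (isFP_of_free hB) η)).finrank_eq,
    Module.finrank_linearMap]

end General

variable (k : Type u) [Field k]

/-- `O(d)`. -/
abbrev tw (d : ℤ) : (CohB1.ProjSpace 1 k).Modules := Twist.twistProjSpace 1 k d

instance : IsIntegral (CohB1.ProjSpace 1 k) := H23.PnChart.isIntegral_projSpace 1 k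

instance : IsProper ((CohB1.ProjSpace 1 k) ↘ Spec (CommRingCat.of k)) := PnCoh.Chow.isProper_toSpec 1 k

instance : Smooth ((CohB1.ProjSpace 1 k) ↘ Spec (CommRingCat.of k)) := CurveEmbed.smooth_toSpec 1 k

instance : IsLocallyNoetherian (CohB1.ProjSpace 1 k) :=
  LocallyOfFiniteType.isLocallyNoetherian ((CohB1.ProjSpace 1 k) ↘ Spec (CommRingCat.of k))

theorem hdim : topologicalKrullDim ↥(CohB1.ProjSpace 1 k) = 1 := by
  simpa using S10829.result k 1

theorem inv_tw (d : ℤ) : PicF.IsInvertible (tw k d) :=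
  PnCoh.Finite.isInvertible_twist (fun j : ULift.{u} (Fin (1 + 1)) => MvPolynomial.X j.down)
    (fun j => ProjPt.X_mem j.down) (by
      refine top_le_iff.1 ((AmpleEmbed.iSup_basicOpen_X 1 k).ge.trans (iSup_le fun j => ?_))
      exact le_iSup_of_le (ULift.up j) le_rfl) d

theorem free_tw (d : ℤ) : FlatMod.IsFinLocFree (tw k d) :=
  isFinLocFree_of_rank (InvEnd.isFinLocFreeOfRank_one (inv_tw k d))

theorem rk_tw (d : ℤ) : rk (tw k d) = 1 := rk_eq (InvEnd.isFinLocFreeOfRank_one (inv_tw k d))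

theorem h0_tw (d : ℤ) : (Module.finrank k (Coh.HH _ (tw k d) 0) : ℤ) = max 0 (d + 1) := by
  by_cases hd : 0 ≤ d
  · obtain ⟨m, rfl⟩ := Int.eq_ofNat_of_zero_le hd
    obtain ⟨φ⟩ := S0843.result k 1 m
    rw [φ.finrank_eq, CurveEmbed.finrank_binary]
    omega
  · haveI := S0844.result k 1 d 0 (fun h => hd h.2) (fun h => absurd h.1 zero_ne_one)
    rw [Module.finrank_zero_of_subsingleton]
    omega

theorem h1_tw (d : ℤ) : (Module.finrank k (Coh.HH _ (tw k d) 1) : ℤ) = max 0 (-d - 1) := by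
  by_cases hd : d ≤ -2
  · obtain ⟨m, hm⟩ := Int.eq_ofNat_of_zero_le (show 0 ≤ -2 - d by omega)
    obtain ⟨φ⟩ := S0845.result k 1 m
    rw [show d = -(((1 : ℕ) : ℤ) + 1 + m) by omega, φ.finrank_eq, CurveEmbed.finrank_binary]
    omega
  · haveI := S0844.result k 1 d 1 (fun h => absurd h.1 one_ne_zero) (fun h => hd (by omega))
    rw [Module.finrank_zero_of_subsingleton]
    omega

theorem euler_tw (d : ℤ) : Curv2.euler k (CohB1.ProjSpace 1 k) (tw k d) = d + 1 := by
  rw [CurveRR.euler_eq_h0_sub_h1 k (hdim k).le (coh_of_free k (free_tw k d)).1, h0_tw, h1_tw]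
  omega

theorem euler_O : Curv2.euler k (CohB1.ProjSpace 1 k) (Coh.structureModule (CohB1.ProjSpace 1 k)) = 1 := by
  rw [CurveRR.euler_eq_h0_sub_h1 k (hdim k).le QCoh.isQCoh_structureModule]
  haveI h : Subsingleton (Coh.HH (CohB1.ProjSpace 1 k) (Coh.structureModule (CohB1.ProjSpace 1 k)) (0 + 1)) :=
    PnCoh.subsingleton_HH_structureModule (ι := Fin (1 + 1)) (R := k) (PnCoh.isQCoh_structureModule _) 0
  have h1 : Module.finrank k (Coh.HH (CohB1.ProjSpace 1 k) (Coh.structureModule (CohB1.ProjSpace 1 k)) 1) = 0 :=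
    Module.finrank_zero_of_subsingleton (R := k)
      (M := Coh.HH (CohB1.ProjSpace 1 k) (Coh.structureModule _) (0 + 1))
  have h2 := CurveEmbed.h0_structure_dvd k (tw k 1)
  have h3 := CurveEmbed.h0_structure_dvd k (tw k 2)
  have h4 : Module.finrank k (Coh.HH _ (tw k 1) 0) = 2 := by have := h0_tw k 1; omega
  have h5 : Module.finrank k (Coh.HH _ (tw k 2) 0) = 3 := by have := h0_tw k 2; omega
  rw [h4] at h2
  rw [h5] at h3
  rw [h1, Nat.dvd_one.1 ((Nat.dvd_add_iff_right h2).2 h3)]
  norm_num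

theorem dg_tw (d : ℤ) : dg k (tw k d) = d := by
  unfold dg
  rw [euler_tw, euler_O, rk_tw]
  omega

/-- A line bundle is the twist by its degree. -/
theorem iso_tw {L : (CohB1.ProjSpace 1 k).Modules} (hL : FlatMod.IsFinLocFree L) (hr : rk L = 1) :
    Nonempty (L ≅ tw k (dg k L)) := by
  have hL1 : FlatMod.IsFinLocFreeOfRank 1 L := by
    have := isFinLocFreeOfRank_rk hL
    rwa [hr] at this
  obtain ⟨f, hf⟩ := exists_hom_ne_zero k (hdim k) (free_tw k (dg k L)) hL
    (by rw [rk_tw, hr, dg_tw, euler_O]; omega)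
  haveI := (CurveDeg.deg_le_and_isIso k (hdim k).le (inv_tw k (dg k L))
    (isInvertible_of_rank_one hL1) f hf).2 (by
      rw [deg_eq_dg k (InvEnd.isFinLocFreeOfRank_one (inv_tw k (dg k L))), deg_eq_dg k hL1, dg_tw])
  exact ⟨(asIso f).symm⟩

theorem mono_of_ne_zero {d : ℤ} {E : (CohB1.ProjSpace 1 k).Modules} (hE : FlatMod.IsFinLocFree E)
    (f : tw k d ⟶ E) (hf : f ≠ 0) : Mono f := by
  have hc := coh_of_free k (free_tw k d)
  have hEc := coh_of_free k hE
  have hK : Coh.IsCoh (kernel f) := QCoh.isCoh_kernel hc hEc f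
  have hKf := isFinLocFree_of_mono k (hdim k).le hK (kernel.ι f) (free_tw k d)
  have hle : rk (kernel f) ≤ 1 := (rk_le_of_mono k (kernel.ι f) hc).trans (rk_tw k d).le
  by_cases h0 : rk (kernel f) = 0
  · exact Preadditive.mono_of_kernel_zero ((isZero_of_rk_zero hKf h0).eq_of_src _ _)
  refine absurd ?_ hf
  have hS := shortExact_cokernel_of_mono (kernel.ι f)
  have hQc : Coh.IsCoh (Abelian.coimage f) := QCoh.isCoh_cokernel hK.1 hc (kernel.ι f)
  have hQf := isFinLocFree_of_mono k (hdim k).le hQc (Abelian.factorThruCoimage f) hE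
  have h := rk_add_coh k _ _ _ hS hc
  rw [rk_tw] at h
  have hz := isZero_of_rk_zero hQf (show rk (Abelian.coimage f) = 0 by
    show rk (cokernel (kernel.ι f)) = 0
    omega)
  rw [← Abelian.coimage.fac f, hz.eq_of_tgt (Abelian.coimage.π f) 0, zero_comp]

theorem isSplit_hom (a b : ℤ) (h : b ≤ a + 1) :
    Subsingleton (Coh.HH _ (homSh (tw k b) (tw k a)) 1) := by
  have hf := isFinLocFree_homSh (free_tw k b) (free_tw k a)
  have hr : rk (homSh (tw k b) (tw k a)) = 1 := by rw [rk_homSh (free_tw k b) (free_tw k a), rk_tw, rk_tw]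
  have he : dg k (homSh (tw k b) (tw k a)) = a - b := by
    unfold dg
    rw [dg_homSh k (hdim k) (free_tw k b) (free_tw k a), hr, rk_tw, rk_tw, dg_tw, dg_tw, euler_O]
    omega
  obtain ⟨e⟩ := iso_tw k hf hr
  rw [he] at e
  haveI := S0844.result k 1 (a - b) 1 (fun h => absurd h.1 one_ne_zero) (fun h' => by omega)
  refine Function.Injective.subsingleton (f := mapLin k e.hom 1) (Function.LeftInverse.injective
    (g := mapLin k e.inv 1) fun y => ?_)
  exact (PnCoh.Finite.map_map (Y := (CohB1.ProjSpace 1 k).toPresheafedSpace.carrier)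
    (((QCoh.toAbFunctor _).map_comp e.hom e.inv).symm.trans
      (by rw [e.hom_inv_id, CategoryTheory.Functor.map_id]; rfl)) 1 y).trans (Sheaf.H.map_id_apply y)

/-- `⨁` of a decomposition with one more summand. -/
def consIso {C : Type*} [Category C] [Preadditive C] [HasFiniteBiproducts C] [HasBinaryBiproducts C]
    {n : ℕ} (f : Fin (n + 1) → C) : (⨁ f) ≅ f 0 ⊞ ⨁ fun i : Fin n => f i.succ where
  hom := biprod.lift (biproduct.π f 0) (biproduct.lift fun i => biproduct.π f i.succ)
  inv := biproduct.lift (Fin.cases biprod.fst (fun i => biprod.snd ≫ biproduct.π _ i))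
  hom_inv_id := by
    ext j
    cases j using Fin.cases <;> simp
  inv_hom_id := by
    apply biprod.hom_ext
    · simp
    · refine biproduct.hom_ext _ _ fun j => ?_
      simp

theorem exists_decomp : ∀ (r : ℕ) (E : (CohB1.ProjSpace 1 k).Modules), FlatMod.IsFinLocFree E → rk E = r →
    ∃ d : Fin r → ℤ, Nonempty (E ≅ ⨁ fun i => tw k (d i)) := by
  intro r
  induction r with
  | zero =>
    intro E hE hr
    refine ⟨Fin.elim0, ⟨IsZero.iso (isZero_of_rk_zero hE hr) ?_⟩⟩
    exact (IsZero.iff_id_eq_zero _).2 (biproduct.hom_ext _ _ fun j => j.elim0)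
  | succ r ih =>
    intro E hE hr
    have hEc := coh_of_free k hE
    obtain ⟨W, i₀, hi₀, hW, hrW, hmax₀⟩ := exists_max_sub k (hdim k).le hE
      (CurveDuality.exists_sub_of_rank k (hdim k) hE 1 (by omega))
    haveI := hi₀
    obtain ⟨eW⟩ := iso_tw k hW hrW
    obtain ⟨d, hd⟩ : ∃ d, dg k W = d := ⟨_, rfl⟩
    rw [hd] at eW
    let i : tw k d ⟶ E := eW.inv ≫ i₀
    haveI hi : Mono i := mono_comp _ _
    have hmax : ∀ (F : (CohB1.ProjSpace 1 k).Modules) (g : F ⟶ E), Mono g → FlatMod.IsFinLocFree F →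
        rk F = 1 → dg k F ≤ d := fun F g h1 h2 h3 => (hmax₀ F g h1 h2 h3).trans hd.le
    have hWf := free_tw k d
    have hWc := coh_of_free k hWf
    have hQc : Coh.IsCoh (cokernel i) := QCoh.isCoh_cokernel hWc.1 hEc i
    have hS := shortExact_cokernel_of_mono i
    have hQ := isFinLocFree_of_max k (hdim k).le i (cokernel.π i) _ hS hWc hE hQc
      (fun F g hg hF hrF => (hmax F g hg hF (hrF.trans (rk_tw k d))).trans (dg_tw k d).ge)
    have hrQ : rk (cokernel i) = r := by have := rk_add_coh k _ _ _ hS hEc; rw [rk_tw] at this; omega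
    obtain ⟨c, ⟨e⟩⟩ := ih _ hQ hrQ
    let ι : ∀ j, tw k (c j) ⟶ cokernel i := fun j => biproduct.ι (fun j => tw k (c j)) j ≫ e.inv
    have hle : ∀ j, c j ≤ d + 1 := fun j => by
      by_contra hj
      haveI : Mono (ι j) := mono_comp _ _
      obtain ⟨P, p, hp, hP, hrP, hdP⟩ := exists_preimage k (hdim k).le i (cokernel.π i) _ hS hWc hE hQc
        (ι j) (coh_of_free k (free_tw k (c j)))
      haveI := hp
      obtain ⟨f, hf⟩ := exists_hom_ne_zero k (hdim k) (free_tw k (d + 1)) hP
        (by rw [rk_tw, dg_tw, euler_O, hrP, hdP, rk_tw, rk_tw, dg_tw, dg_tw]; omega)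
      haveI := mono_of_ne_zero k hP f hf
      have h := hmax _ (f ≫ p) (mono_comp _ _) (free_tw k _) (rk_tw k _)
      rw [dg_tw] at h
      omega
    have hl : ∀ j, ∃ ψ : tw k (c j) ⟶ E, ψ ≫ cokernel.π i = ι j := fun j => by
      obtain ⟨ψ, hψ⟩ := exists_lift hS (free_tw k (c j)) (ι j)
        (isSplit_hom k d (c j) (hle j))
      exact ⟨ψ, hψ⟩
    choose ψ hψ using hl
    let s : cokernel i ⟶ E := e.hom ≫ biproduct.desc ψ
    have hs : s ≫ cokernel.π i = 𝟙 _ := by
      rw [Category.assoc, ← cancel_epi e.inv, Iso.inv_hom_id_assoc, Category.comp_id]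
      refine biproduct.hom_ext' _ _ fun j => ?_
      all_goals simp [hψ, ι]
    let sp := ShortComplex.Splitting.ofExactOfSection _ hS.exact s hs hi
    let f : Fin (r + 1) → (CohB1.ProjSpace 1 k).Modules := Fin.cases (tw k d) fun j => tw k (c j)
    have e1 : E ≅ tw k d ⊞ ⨁ fun j => tw k (c j) := sp.isoBinaryBiproduct ≪≫ biprod.mapIso (Iso.refl _) e
    have e2 : (⨁ f) ≅ ⨁ fun i => tw k ((Fin.cons d c : Fin (r + 1) → ℤ) i) :=
      biproduct.mapIso fun i => eqToIso (by cases i using Fin.cases <;> simp [f])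
    have e3 : (⨁ f) ≅ tw k d ⊞ ⨁ fun j => tw k (c j) :=
      consIso f ≪≫ biprod.mapIso (eqToIso (by simp [f])) (biproduct.mapIso fun j => eqToIso (by simp [f]))
    exact ⟨Fin.cons d c, ⟨e1 ≪≫ e3.symm ≪≫ e2⟩⟩

theorem hom_eq_zero {a b : ℤ} (h : b < a) (f : tw k a ⟶ tw k b) : f = 0 := by
  by_contra hf
  have h1 := (CurveDeg.deg_le_and_isIso k (hdim k).le (inv_tw k a) (inv_tw k b) f hf).1
  rw [deg_eq_dg k (InvEnd.isFinLocFreeOfRank_one (inv_tw k a)),
    deg_eq_dg k (InvEnd.isFinLocFreeOfRank_one (inv_tw k b)), dg_tw, dg_tw] at h1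
  omega

/-- The generic stalk of a sum of line bundles. -/
theorem finrank_biproduct {ι : Type} [Fintype ι] (d : ι → ℤ) :
    rk (⨁ fun i => tw k (d i)) = Fintype.card ι ∧
      Module.Finite ((CohB1.ProjSpace 1 k).presheaf.stalk (genericPoint _))
        ((⨁ fun i => tw k (d i)).presheaf.stalk (genericPoint _)) := by
  let P := CohB1.ProjSpace 1 k
  let η := genericPoint P
  let F := DerSch.stalkFunctor P η
  let e : ((⨁ fun i => tw k (d i)).presheaf.stalk η) ≃ₗ[P.presheaf.stalk η]
      (∀ i, (tw k (d i)).presheaf.stalk η) :=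
    (F.mapBiproduct (fun i => tw k (d i)) ≪≫ ModuleCat.biproductIsoPi _).toLinearEquiv
  haveI : ∀ i, Module.Free (P.presheaf.stalk η) ((tw k (d i)).presheaf.stalk η) :=
    fun i => QCoh.free_stalk_of_isFinLocFree (free_tw k (d i)) η
  haveI : ∀ i, Module.Finite (P.presheaf.stalk η) ((tw k (d i)).presheaf.stalk η) :=
    fun i => finite_stalk_of_coh (coh_of_free k (free_tw k (d i))) η
  refine ⟨?_, Module.Finite.equiv e.symm⟩
  unfold rk
  rw [e.finrank_eq, Module.finrank_pi_fintype]
  have h : ∀ i, Module.finrank (P.presheaf.stalk η) ((tw k (d i)).presheaf.stalk η) = 1 := fun i => rk_tw k (d i)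
  simp only [h, Finset.sum_const, Finset.card_univ, smul_eq_mul, mul_one]

open Classical in
theorem card_le {r : ℕ} (d d' : Fin r → ℤ)
    (e : (⨁ fun i => tw k (d i)) ≅ ⨁ fun i => tw k (d' i)) (n : ℤ) :
    Fintype.card {i // n ≤ d i} ≤ Fintype.card {i // n ≤ d' i} := by
  let f := fun i => tw k (d i)
  let f' := fun i => tw k (d' i)
  let j := biproduct.fromSubtype f (fun i => n ≤ d i)
  let q := biproduct.toSubtype f' (fun i => n ≤ d' i)
  let j' := biproduct.fromSubtype f' (fun i => n ≤ d' i)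
  have h : (j ≫ e.hom ≫ q) ≫ j' = j ≫ e.hom := by
    refine biproduct.hom_ext' _ _ fun a => biproduct.hom_ext _ _ fun b => ?_
    simp only [Category.assoc, q, j', biproduct.fromSubtype_π]
    split_ifs with hb
    · simp [f']
    · simp only [comp_zero]
      exact (hom_eq_zero k (by have := a.2; omega) _).symm
  haveI : Mono j := mono_of_mono_fac (biproduct.fromSubtype_toSubtype f _)
  haveI : Mono (j ≫ e.hom) := mono_comp _ _
  haveI : Mono (j ≫ e.hom ≫ q) := mono_of_mono_fac h
  obtain ⟨h1, -⟩ := finrank_biproduct k (fun i : {i // n ≤ d i} => d i)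
  obtain ⟨h2, h3⟩ := finrank_biproduct k (fun i : {i // n ≤ d' i} => d' i)
  have h4 := stalkMap_injective (j ≫ e.hom ≫ q) (genericPoint _)
  haveI : Module.Finite ((CohB1.ProjSpace 1 k).presheaf.stalk (genericPoint _))
      ((⨁ Subtype.restrict (fun i => n ≤ d' i) f').presheaf.stalk (genericPoint _)) := h3
  haveI : Module.Free ((CohB1.ProjSpace 1 k).presheaf.stalk (genericPoint _))
      ((⨁ Subtype.restrict (fun i => n ≤ d' i) f').presheaf.stalk (genericPoint _)) := by
    letI := (isField_stalk_generic (X := CohB1.ProjSpace 1 k)).toField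
    exact Module.Free.of_divisionRing _ _
  have h5 := LinearMap.finrank_le_finrank_of_injective h4
  rw [← h1, ← h2]
  exact h5

open Classical in
theorem unique_decomp {r : ℕ} (d d' : Fin r → ℤ) (h : Antitone d) (h' : Antitone d')
    (e : (⨁ fun i => tw k (d i)) ≅ ⨁ fun i => tw k (d' i)) : d = d' := by
  have key : ∀ (d d' : Fin r → ℤ), Antitone d → Antitone d' →
      ((⨁ fun i => tw k (d i)) ≅ ⨁ fun i => tw k (d' i)) → ∀ i, d i ≤ d' i := by
    intro d d' hd hd' e i
    by_contra hlt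
    push Not at hlt
    have h1 := card_le k d d' e (d i)
    rw [Fintype.card_subtype, Fintype.card_subtype] at h1
    have h2 : Finset.Iic i ⊆ Finset.univ.filter fun j => d i ≤ d j := fun j hj =>
      Finset.mem_filter.2 ⟨Finset.mem_univ _, hd (Finset.mem_Iic.1 hj)⟩
    have h3 : (Finset.univ.filter fun j => d i ≤ d' j) ⊆ Finset.Iio i := fun j hj => by
      refine Finset.mem_Iio.2 (lt_of_not_ge fun hij => ?_)
      have := (Finset.mem_filter.1 hj).2
      have := hd' hij
      omega
    have h4 := Finset.card_le_card h2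
    have h5 := Finset.card_le_card h3
    rw [Fin.card_Iic] at h4
    rw [Fin.card_Iio] at h5
    omega
  exact funext fun i => le_antisymm (key d d' h h' e i) (key d' d h' h e.symm i)

end Groth.Agent.P1Bundle
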