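import Groth.Agent.Lib.CurveHom
import Groth.Agent.Lib.CurvePsi
import Groth.Agent.Lib.CurveStable

/-!
Euler characteristic of sheaf Hom between bundles on a curve.
-/

set_option linter.style.haveILetI false
set_option linter.unusedSectionVars false
set_option backward.isDefEq.respectTransparency false
set_option backward.isDefEq.respectTransparency.types false

universe u

open CategoryTheory CategoryTheory.Limits AlgebraicGeometry TopologicalSpace Opposite

noncomputable section

namespace Groth.Agent.CurveHom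

open RefHull Groth.Agent.CurveBundle Groth.Agent.CurveSlope Groth.Agent.CurveStable

variable {X : Scheme.{u}} {A B B' B'' C : X.Modules}

/-- Contravariant functoriality of sheaf Hom. -/
def homMapLeft (C : X.Modules) (f : B ⟶ B') : homSh B' C ⟶ homSh B C :=
  ⟨PresheafOfModules.homMk
    { app := fun U => AddCommGrpCat.ofHom
        { toFun := fun g => ⟨fun y => (g.1 y).comp (stalkMapₗ f y.1), fun V i m y => by
            obtain ⟨W, hW, j, n, w⟩ := isLocSect_of_mem g V i (f.app V m) y
            refine ⟨W, hW, j, n, fun z => ?_⟩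
            rw [LinearMap.comp_apply, stalkMapₗ_germ, w z]⟩
          map_zero' := Subtype.ext <| funext fun y => LinearMap.zero_comp _
          map_add' := fun g g' => Subtype.ext <| funext fun y => LinearMap.add_comp _ _ _ }
      naturality := fun {U V} i => by ext g; rfl }
    (fun U r g => Subtype.ext <| funext fun y => LinearMap.smul_comp _ _ _)⟩

theorem evalStalk_homMapLeft (f : B ⟶ B') (x : X) (t : (homSh B' C).presheaf.stalk x) :
    evalStalk B C x (stalkMapₗ (homMapLeft C f) x t) = (evalStalk B' C x t).comp (stalkMapₗ f x) := by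
  obtain ⟨U, hx, g, rfl⟩ := TopCat.Presheaf.exists_germ_eq (homSh B' C).presheaf t
  rw [stalkMapₗ_germ, evalStalk_germ, evalStalk_germ]
  rfl

/-- Sheaf Hom out of a short exact sequence of bundles is exact. -/
theorem shortExact_homMapLeft {S : ShortComplex X.Modules} (hS : S.ShortExact)
    (h₁ : FlatMod.IsFinLocFree S.X₁) (h₂ : FlatMod.IsFinLocFree S.X₂) (h₃ : FlatMod.IsFinLocFree S.X₃)
    (C : X.Modules) :
    ∃ w, (ShortComplex.mk (homMapLeft C S.g) (homMapLeft C S.f) w).ShortExact := by
  have b₁ := isFP_of_free h₁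
  have b₂ := isFP_of_free h₂
  have b₃ := isFP_of_free h₃
  have key := fun x => (KFlatLib.shortExact_iff_stalk S).1 hS x
  have hsurj : ∀ x, Function.Surjective (stalkMapₗ S.g x) := fun x => by
    haveI := (key x).epi_g
    exact (ModuleCat.epi_iff_surjective _).1 this
  have hinj : ∀ x, Function.Injective (stalkMapₗ S.f x) := fun x => by
    haveI := (key x).mono_f
    exact (ModuleCat.mono_iff_injective _).1 this
  have hex : ∀ x, ∀ v, stalkMapₗ S.g x v = 0 → ∃ u, stalkMapₗ S.f x u = v := fun x v hv =>
    (ShortComplex.moduleCat_exact_iff _).1 (key x).exact v hv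
  have hzero : ∀ x u, stalkMapₗ S.g x (stalkMapₗ S.f x u) = 0 := fun x u => by
    rw [← stalkMapₗ_comp, S.zero, stalkMapₗ_eq, Functor.map_zero]
    rfl
  have w : homMapLeft C S.g ≫ homMapLeft C S.f = 0 := eq_zero_of_stalk _ fun x t => by
    refine (RefX.evalStalk_bijective b₁ x).1 ?_
    rw [map_zero, stalkMapₗ_comp, evalStalk_homMapLeft, evalStalk_homMapLeft]
    refine LinearMap.ext fun b => ?_
    rw [LinearMap.comp_apply, LinearMap.comp_apply, hzero, map_zero]
    rfl
  refine ⟨w, (KFlatLib.shortExact_iff_stalk _).2 fun x => ?_⟩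
  haveI := QCoh.free_stalk_of_isFinLocFree h₃ x
  obtain ⟨s, hs⟩ := Module.projective_lifting_property (stalkMapₗ S.g x) LinearMap.id (hsurj x)
  have hs' : ∀ q, stalkMapₗ S.g x (s q) = q := fun q => LinearMap.congr_fun hs q
  refine ShortComplex.ShortExact.mk' ((ShortComplex.moduleCat_exact_iff _).2 fun t ht => ?_)
    ((ModuleCat.mono_iff_injective _).2 fun t t' htt => ?_) ((ModuleCat.epi_iff_surjective _).2 fun t => ?_)
  · have h0 : (evalStalk S.X₂ C x t).comp (stalkMapₗ S.f x) = 0 :=
      (evalStalk_homMapLeft S.f x t).symm.trans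
        ((congrArg (evalStalk S.X₁ C x) (show stalkMapₗ (homMapLeft C S.f) x t = 0 from ht)).trans (map_zero _))
    obtain ⟨r, hr⟩ := (RefX.evalStalk_bijective (G := C) b₃ x).2 ((evalStalk S.X₂ C x t).comp s)
    refine ⟨r, (RefX.evalStalk_bijective b₂ x).1 ?_⟩
    refine (evalStalk_homMapLeft S.g x r).trans (LinearMap.ext fun v => ?_)
    rw [hr, LinearMap.comp_apply, LinearMap.comp_apply]
    obtain ⟨u, hu⟩ := hex x (v - s (stalkMapₗ S.g x v)) (by rw [map_sub, hs', sub_self])
    have h1 := LinearMap.congr_fun h0 u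
    rw [LinearMap.comp_apply, hu, map_sub, LinearMap.zero_apply, sub_eq_zero] at h1
    exact h1.symm
  · refine (RefX.evalStalk_bijective b₃ x).1 (LinearMap.ext fun q => ?_)
    obtain ⟨v, rfl⟩ := hsurj x q
    have h1 := LinearMap.congr_fun ((evalStalk_homMapLeft S.g x t).symm.trans
      ((congrArg (evalStalk S.X₂ C x) htt).trans (evalStalk_homMapLeft S.g x t'))) v
    exact h1
  · let φ := evalStalk S.X₁ C x t
    choose p hp using fun v => hex x (v - s (stalkMapₗ S.g x v)) (by rw [map_sub, hs', sub_self])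
    let p' : S.X₂.presheaf.stalk x →ₗ[X.presheaf.stalk x] S.X₁.presheaf.stalk x :=
      { toFun := p
        map_add' := fun a b => hinj x (by rw [hp, map_add, map_add, map_add, hp, hp]; abel)
        map_smul' := fun c a => hinj x (by rw [hp, RingHom.id_apply, map_smul, map_smul, map_smul, hp, smul_sub]) }
    obtain ⟨r, hr⟩ := (RefX.evalStalk_bijective (G := C) b₂ x).2 (φ.comp p')
    refine ⟨r, (RefX.evalStalk_bijective b₁ x).1 ?_⟩
    refine (evalStalk_homMapLeft S.f x r).trans (LinearMap.ext fun u => ?_)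
    rw [hr, LinearMap.comp_apply, LinearMap.comp_apply]
    refine congrArg φ (hinj x ?_)
    show stalkMapₗ S.f x (p _) = _
    rw [hp, hzero, map_zero, sub_zero]

variable (k : Type u) [Field k] [X.Over (Spec (CommRingCat.of k))] [IsProper (X ↘ Spec (CommRingCat.of k))]

/-- Torsion targets. -/
theorem euler_homSh_torsion {n : ℕ} (hB : FlatMod.IsFinLocFreeOfRank n B) {F : X.Modules}
    (hF : Coh.IsCoh F) (h0 : ∀ x ∈ CohB1.support F, IsClosed ({x} : Set X)) :
    Curv2.euler k X (homSh B F) = n * Curv2.euler k X F := by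
  haveI := CurveCohLib.isNoetherian_of_proper (k := k) (X := X)
  have hBf : FlatMod.IsFinLocFree B := fun y => let ⟨W, hy, he⟩ := hB y; ⟨W, n, hy, he⟩
  have hsub : CohB1.support (homSh B F) ⊆ CohB1.support F := fun x hx => by
    by_contra h
    haveI : Subsingleton (F.presheaf.stalk x) := not_not.1 h
    exact hx (RefX.evalStalk_bijective (G := F) (isFP_of_free hBf) x).1.subsingleton
  have hfin := CurveCohLib.finite_of_closedPoints (QCoh.isClosed_support_of_isFT hF.1 hF.2) h0
  obtain ⟨h1, hk⟩ := CurveCohLib.euler_eq_sum_stalks (k := k) hF h0 hfin.toFinset (by simp)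
  obtain ⟨h2, -⟩ := CurveCohLib.euler_eq_sum_stalks (k := k)
    (RefX.isCoh_homSh (CurveDeg.isCoh_of_isFinLocFree hBf) hF)
    (fun x hx => h0 x (hsub hx)) hfin.toFinset (by simpa using hsub)
  rw [h1, h2, Finset.mul_sum]
  refine Finset.sum_congr rfl fun x hx => ?_
  obtain ⟨b⟩ := CurveTensor.exists_basis_stalk hB x
  letI := CurveCohLib.stalkModuleK k F x
  letI := CurveCohLib.stalkModuleK k (homSh B F) x
  let T := (F.presheaf.stalk x : Type u)
  let M := ((homSh B F).presheaf.stalk x : Type u)
  let e : M ≃ₗ[X.presheaf.stalk x] (Fin n → T) :=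
    (LinearEquiv.ofBijective (evalStalk B F x) (RefX.evalStalk_bijective (isFP_of_free hBf) x)).trans
      (b.constr (X.presheaf.stalk x)).symm
  letI : Algebra k (X.presheaf.stalk x) := (Curv2.stalkMap k X x).toAlgebra
  haveI : IsScalarTower k (X.presheaf.stalk x) T := IsScalarTower.of_algebraMap_smul fun _ _ => rfl
  haveI : IsScalarTower k (X.presheaf.stalk x) M := IsScalarTower.of_algebraMap_smul fun _ _ => rfl
  haveI : Module.Finite k T := hk x hx
  show ((Module.finrank k M : ℕ) : ℤ) = n * (Module.finrank k T : ℕ)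
  rw [(e.restrictScalars k).finrank_eq, Module.finrank_pi_fintype]
  simp

/-- `M ↦ χ(Hom(B, M)) - n χ(M)`. -/
def homPsi {n : ℕ} (hB : FlatMod.IsFinLocFreeOfRank n B) : CurvePsi.Psi X where
  toFun M := Curv2.euler k X (homSh B M) - n * Curv2.euler k X M
  congr e := by
    have hBf : FlatMod.IsFinLocFree B := fun y => let ⟨W, hy, he⟩ := hB y; ⟨W, n, hy, he⟩
    haveI : IsIso (homMap B e.hom) := ⟨homMap B e.inv,
      by
        refine sub_eq_zero.1 (eq_zero_of_stalk _ fun x t => (RefX.evalStalk_bijective (isFP_of_free hBf) x).1 ?_)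
        rw [map_zero, stalkMapₗ_eq, Functor.map_sub]
        show evalStalk B _ x (stalkMapₗ (homMap B e.hom ≫ homMap B e.inv) x t - stalkMapₗ (𝟙 _) x t) = 0
        rw [map_sub, stalkMapₗ_comp, evalStalk_homMap, evalStalk_homMap]
        refine LinearMap.ext fun b => ?_
        simp only [LinearMap.sub_apply, LinearMap.comp_apply, ← stalkMapₗ_comp, e.hom_inv_id]
        simp [stalkMapₗ_eq],
      by
        refine sub_eq_zero.1 (eq_zero_of_stalk _ fun x t => (RefX.evalStalk_bijective (isFP_of_free hBf) x).1 ?_)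
        rw [map_zero, stalkMapₗ_eq, Functor.map_sub]
        show evalStalk B _ x (stalkMapₗ (homMap B e.inv ≫ homMap B e.hom) x t - stalkMapₗ (𝟙 _) x t) = 0
        rw [map_sub, stalkMapₗ_comp, evalStalk_homMap, evalStalk_homMap]
        refine LinearMap.ext fun b => ?_
        simp only [LinearMap.sub_apply, LinearMap.comp_apply, ← stalkMapₗ_comp, e.inv_hom_id]
        simp [stalkMapₗ_eq]⟩
    rw [Euler.euler_congr k (asIso (homMap B e.hom)), Euler.euler_congr k e]
  add f g w hS hA hM hC := by
    haveI := CurveCohLib.isNoetherian_of_proper (k := k) (X := X)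
    have hBf : FlatMod.IsFinLocFree B := fun y => let ⟨W, hy, he⟩ := hB y; ⟨W, n, hy, he⟩
    have hBc := CurveDeg.isCoh_of_isFinLocFree hBf
    obtain ⟨w', hT⟩ := shortExact_homMap hBf hS
    rw [euler_add' k _ _ _ hT (RefX.isCoh_homSh hBc hA) (RefX.isCoh_homSh hBc hM)
      (RefX.isCoh_homSh hBc hC), euler_add' k f g w hS hA hM hC]
    ring
  zero hM h0 := by rw [euler_homSh_torsion k hB hM h0, sub_self]

variable [IsIntegral X]

theorem euler_homSh_eq (hdim : topologicalKrullDim X = 1) {n m : ℕ} {V : X.Modules}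
    (hB : FlatMod.IsFinLocFreeOfRank n B) (hV : FlatMod.IsFinLocFreeOfRank m V) :
    Curv2.euler k X (homSh B V) = n * Curv2.euler k X V +
      m * (Curv2.euler k X (dual B) - n * Curv2.euler k X (Coh.structureModule X)) := by
  haveI := CurveCohLib.isNoetherian_of_proper (k := k) (X := X)
  have h := CurvePsi.Psi.tensor_eq (homPsi k hB) hdim.le hV (QCoh.isCoh_structureModule' (X := X))
  rw [(homPsi k hB).congr (KFlatLib.tensorUnitIso V)] at h
  simp only [homPsi] at h
  linear_combination h

theorem euler_dual_line (hdim : topologicalKrullDim X = 1) {L : X.Modules}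
    (hL : FlatMod.IsFinLocFreeOfRank 1 L) :
    Curv2.euler k X (dual L) = 2 * Curv2.euler k X (Coh.structureModule X) - Curv2.euler k X L := by
  haveI := CurveCohLib.isNoetherian_of_proper (k := k) (X := X)
  have hLf : FlatMod.IsFinLocFree L := fun y => let ⟨W, hy, he⟩ := hL y; ⟨W, 1, hy, he⟩
  let η : Coh.structureModule X ⟶ homSh L L := QCoh.homOfTop (ofHom (𝟙 L) ⊤)
  haveI : IsIso η := ZClosLib.isIso_of_stalkMap_bijective _ fun x => by
    obtain ⟨b⟩ := CurveTensor.exists_basis_stalk hL x
    let e := LinearEquiv.ofBijective (evalStalk L L x) (RefX.evalStalk_bijective (isFP_of_free hLf) x)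
    have h1 : ∀ a : X.presheaf.stalk x, e (stalkMapₗ η x (RefX.unitStalk x a)) = a • LinearMap.id := fun a => by
      show e (stalkMapₗ η x (a • (Coh.structureModule X).presheaf.germ ⊤ x trivial
        (show Γ(Coh.structureModule X, ⊤) from (1 : Γ(X, ⊤))))) = _
      rw [map_smul, map_smul]
      refine congrArg (a • ·) ?_
      show evalStalk L L x (stalkMapₗ η x ((Coh.structureModule X).presheaf.germ ⊤ x trivial _)) = _
      rw [stalkMapₗ_germ, evalStalk_germ, QCoh.homOfTop_app, one_smul]
      show ((homSh L L).presheaf.map (𝟙 _) (ofHom (𝟙 L) ⊤)).1 ⟨x, trivial⟩ = _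
      refine LinearMap.ext fun v => ?_
      show stalkMapₗ (𝟙 L) x v = v
      rw [stalkMapₗ_eq, CategoryTheory.Functor.map_id]
      rfl
    have h2 : Function.Bijective fun a : X.presheaf.stalk x => a • (LinearMap.id : L.presheaf.stalk x →ₗ[X.presheaf.stalk x] L.presheaf.stalk x) := by
      refine ⟨fun a a' h => ?_, fun f => ⟨b.repr (f (b 0)) 0, b.ext fun i => ?_⟩⟩
      · have h3 := congrArg (fun f => b.repr (f (b 0)) 0) h
        simpa using h3
      · obtain rfl : i = 0 := Subsingleton.elim _ _
        rw [LinearMap.smul_apply, LinearMap.id_apply]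
        apply b.repr.injective
        ext
        simp
    have h3 : (fun z => e (stalkMapₗ η x z)) ∘ RefX.unitStalk x =
        fun a : X.presheaf.stalk x => a • (LinearMap.id : L.presheaf.stalk x →ₗ[X.presheaf.stalk x] L.presheaf.stalk x) :=
      funext h1
    rw [← h3, Function.Bijective.of_comp_iff _ (RefX.unitStalk x).bijective] at h2
    exact (e.bijective.of_comp_iff' _).1 h2
  have h := euler_homSh_eq k hdim hL hL
  rw [← Euler.euler_congr k (asIso η)] at h
  push_cast at h
  linarith

variable [Smooth (X ↘ Spec (CommRingCat.of k))]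

/-- The degree of the dual. -/
theorem euler_dual (hdim : topologicalKrullDim X = 1) :
    ∀ (r : ℕ) (B : X.Modules), FlatMod.IsFinLocFree B → rk B = r →
      Curv2.euler k X (dual B) = 2 * r * Curv2.euler k X (Coh.structureModule X) - Curv2.euler k X B := by
  haveI := CurveCohLib.isNoetherian_of_proper (k := k) (X := X)
  intro r
  induction r with
  | zero =>
    intro B hB hr
    have hz := isZero_of_rk_zero hB hr
    have hz' : IsZero (dual B) := KFlatLib.isZero_of_stalk _ fun x => by
      haveI : Subsingleton (B.presheaf.stalk x) :=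
        ModuleCat.subsingleton_of_isZero (Functor.map_isZero (DerSch.stalkFunctor X x) hz)
      haveI : Subsingleton ((dual B).presheaf.stalk x) :=
        (RefX.evalStalk_bijective (G := Coh.structureModule X) (isFP_of_free hB) x).1.subsingleton
      haveI : Subsingleton ((DerSch.stalkFunctor X x).obj (dual B)) :=
        (inferInstance : Subsingleton ((dual B).presheaf.stalk x))
      exact ModuleCat.isZero_of_subsingleton ((DerSch.stalkFunctor X x).obj (dual B))
    rw [euler_eq_zero_of_isZero k hz, euler_eq_zero_of_isZero k hz']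
    push_cast
    ring
  | succ r ih =>
    intro B hB hr
    have hBc := coh_of_free k hB
    obtain ⟨W, i, hi, hW, hrW, hmax⟩ := exists_max_sub k hdim.le hB
      (CurveDuality.exists_sub_of_rank k hdim hB r (by omega))
    haveI := hi
    have hWc := coh_of_free k hW
    have hQc : Coh.IsCoh (cokernel i) := QCoh.isCoh_cokernel hWc.1 hBc i
    have hS := shortExact_cokernel_of_mono i
    have hQ := isFinLocFree_of_max k hdim.le i (cokernel.π i) _ hS hWc hB hQc
      (fun F g hg hF hrF => hmax F g hg hF (hrF.trans hrW))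
    have hQ1 : FlatMod.IsFinLocFreeOfRank 1 (cokernel i) :=
      (show rk (cokernel i) = 1 by have := rk_add_coh k _ _ _ hS hBc; omega) ▸ isFinLocFreeOfRank_rk hQ
    obtain ⟨w, hT⟩ := shortExact_homMapLeft hS hW hB hQ (Coh.structureModule X)
    have h1 : Curv2.euler k X (dual B) = Curv2.euler k X (dual (cokernel i)) + Curv2.euler k X (dual W) :=
      euler_add' k _ _ _ hT (RefX.isCoh_dual hQc) (RefX.isCoh_dual hBc) (RefX.isCoh_dual hWc)
    have h2 := euler_add' k _ _ _ hS hWc hBc hQc
    rw [h1, ih W hW hrW, euler_dual_line k hdim hQ1, h2]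
    push_cast
    ring

/-- Riemann–Roch for sheaf Hom. -/
theorem dg_homSh (hdim : topologicalKrullDim X = 1) {V : X.Modules}
    (hB : FlatMod.IsFinLocFree B) (hV : FlatMod.IsFinLocFree V) :
    Curv2.euler k X (homSh B V) = (rk B : ℤ) * dg k V - (rk V : ℤ) * dg k B +
      (rk B : ℤ) * (rk V : ℤ) * Curv2.euler k X (Coh.structureModule X) := by
  rw [euler_homSh_eq k hdim (isFinLocFreeOfRank_rk hB) (isFinLocFreeOfRank_rk hV),
    euler_dual k hdim _ B hB rfl]
  unfold dg
  ring

/-- A positive Euler characteristic gives a non-zero map. -/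
theorem exists_hom_ne_zero (hdim : topologicalKrullDim X = 1) {V : X.Modules}
    (hB : FlatMod.IsFinLocFree B) (hV : FlatMod.IsFinLocFree V)
    (h : 0 < (rk B : ℤ) * dg k V - (rk V : ℤ) * dg k B +
      (rk B : ℤ) * (rk V : ℤ) * Curv2.euler k X (Coh.structureModule X)) :
    ∃ f : B ⟶ V, f ≠ 0 := by
  haveI := CurveCohLib.isNoetherian_of_proper (k := k) (X := X)
  have hc : Coh.IsCoh (homSh B V) := RefX.isCoh_homSh (coh_of_free k hB) (coh_of_free k hV)
  rw [← dg_homSh k hdim hB hV] at h
  have h0 := euler_le_h0 k hdim.le hc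
  haveI := Module.nontrivial_of_finrank_pos (R := k) (M := Coh.HH X (homSh B V) 0) (by omega)
  obtain ⟨t, ht⟩ := exists_ne (0 : Coh.HH X (homSh B V) 0)
  let g : Γ(homSh B V, ⊤) := Sheaf.H.equiv₀ (Coh.toAb (homSh B V)) isTerminalTop t
  refine ⟨toHom g, fun h0 => ht ?_⟩
  have hg : g = 0 := RefX.sect_ext fun y => LinearMap.ext fun v => by
    rw [← stalkMapₗ_toHom g y.1 v, h0, stalkMapₗ_eq, Functor.map_zero]
    rfl
  exact (Sheaf.H.equiv₀ (Coh.toAb (homSh B V)) isTerminalTop).injective (hg.trans (map_zero _).symm)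

end Groth.Agent.CurveHom
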