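import Groth.Agent.GenBC.RankStratum
import Groth.Agent.PBC.Top

/-!
# Rank of direct images
-/

set_option autoImplicit false
set_option linter.style.haveILetI false
set_option backward.isDefEq.respectTransparency false
set_option backward.isDefEq.respectTransparency.types false

universe u

open CategoryTheory CategoryTheory.Limits AlgebraicGeometry TopologicalSpace

noncomputable section

namespace Groth.Agent.PushRank

open Groth.Agent

variable {X S : Scheme.{u}} (f : X ⟶ S) [IsProper f] [LocallyOfFinitePresentation f] {F : X.Modules}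

/-- If all first fibre cohomology vanishes, the direct image has as rank the dimension of fibre sections. -/
theorem isFinLocFreeOfRank_push (hF : CohB1.IsFP F) (hfl : FlatMod.IsFlatOver f F) (r : ℕ)
    (h1 : ∀ s, Subsingleton (CohIII.fiberH f F s 1)) (hr : ∀ s, CohIII.fiberRank f F 0 s = r) :
    FlatMod.IsFinLocFreeOfRank r ((Scheme.Modules.pushforward f).obj F) := fun s => by
  obtain ⟨hlf, hbc⟩ := PBC.isFinLocFree_and_isIso_bc0 f hF hfl ⊤ fun s _ => Or.inr (h1 s)
  obtain ⟨O, n, hsO, ⟨e⟩⟩ := PBC.isFinLocFree_of_restrict_top hlf s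
  obtain ⟨_, ⟨V, hV, rfl⟩, hsV, hVO⟩ :=
    S.isBasis_affineOpens.exists_subset_of_mem_open (show s ∈ O from hsO) O.2
  obtain ⟨P, hP⟩ := GenBC.exists_isModelOn f F hF hfl (show IsAffineOpen V from hV)
  have hflat := GenBC.RankStratum.flat_coker_of_epi f hF (show IsAffineOpen V from hV) hP fun t _ =>
    haveI := hbc _ _ (S.fromSpecResidueField t) (f.fiberToSpecResidueField t) (f.fiberι t)
      (IsPullback.of_hasPullback f (S.fromSpecResidueField t)) fun _ => trivial
    inferInstance
  have hn : n = r := (GenBC.RankStratum.fiberRank_eq_of_free f hF (show IsAffineOpen V from hV) hP hflat hVO e hsV).symm.trans (hr s)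
  exact ⟨O, hsO, ⟨e ≪≫ eqToIso (by rw [hn])⟩⟩

end Groth.Agent.PushRank
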