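import Groth.Agent.Lib.FibVeryAmple
import Groth.Agent.CurveBC.Main
import Groth.Agent.CurveVA.Main
import Groth.Agent.CurveVA.Vanish
import Groth.Agent.S18840
import Groth.Agent.HilbSnap.Basic
import Groth.Agent.PnVan.Split
import Groth.Agent.Lib.InvEnd
import Groth.Agent.PBC.Top
import Groth.Agent.S5728

/-!
# Powers of the relative differentials of a family of smooth curves
-/

set_option autoImplicit false
set_option linter.style.haveILetI false
set_option linter.unusedSectionVars false
set_option backward.isDefEq.respectTransparency false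
set_option backward.isDefEq.respectTransparency.types false
set_option maxHeartbeats 1000000
set_option maxRecDepth 4000

universe u

open CategoryTheory CategoryTheory.Limits AlgebraicGeometry TopologicalSpace

noncomputable section

namespace Groth.Agent.SmoothCurveFam

open Groth.Agent

/-- Smooth proper curves with constant functions are geometrically integral. -/
theorem geometricallyIntegral (k : Type u) [Field k] (X : Scheme.{u}) [X.Over (Spec (CommRingCat.of k))]
    [IsProper (X ↘ Spec (CommRingCat.of k))] [Smooth (X ↘ Spec (CommRingCat.of k))]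
    (h0 : Module.finrank k (Coh.HH X (Coh.structureModule X) 0) = 1) :
    GeometricallyIntegral (X ↘ Spec (CommRingCat.of k)) := by
  haveI : ObjectProperty.IsClosedUnderIsomorphisms (fun Z : Scheme.{u} => IsIntegral Z) :=
    ⟨fun {A B} e (h : IsIntegral A) => haveI := h; H23.MaxAbelian.isIntegral_of_iso e.symm⟩
  refine ⟨(geometrically_iff_of_commRing_of_isClosedUnderIsomorphisms (P := fun Z : Scheme.{u} => IsIntegral Z)).2
    fun K _ _ => ?_⟩
  letI : (pullback (X ↘ Spec (CommRingCat.of k)) (Spec.map (CommRingCat.ofHom (algebraMap k K)))).Over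
      (Spec (CommRingCat.of K)) := ⟨pullback.snd _ _⟩
  exact CurveBC.isIntegral k K (pullback.fst _ _) (IsPullback.of_hasPullback _ _) h0

/-- An embedding over a field into its projective space gives very ampleness. -/
theorem isRelVeryAmplePn_of_embedding {k : Type u} [Field k] {X : Scheme.{u}} (q : X ⟶ Spec (CommRingCat.of k))
    [IsProper q] {L : X.Modules} (hL : PicF.IsInvertible L) {n : ℕ} (i : X ⟶ CohB1.ProjSpace n k)
    [IsClosedImmersion i] (hi : i ≫ CohB1.ProjSpace.toSpec n k = q)
    (σ : (Scheme.Modules.pullback i).obj (Twist.twistProjSpace n k 1) ≅ L) :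
    RelAmple.IsRelVeryAmplePn q L := by
  let s : Fin (n + 1) → Γ(L, ⊤) := fun l => σ.hom.app ⊤ (ProjUP.pullSec i _ (ProjUP.coord n k l))
  have hcov : ∀ x : X, ∃ l, x ∈ H23.TrivBasic.locus (s l) := fun x => by
    obtain ⟨l, hl⟩ := Opens.mem_iSup.1 ((AmpleEmbed.iSup_basicOpen_X n k).ge (show i x ∈ ⊤ from trivial))
    exact ⟨l, (AmpleEmbed.preimage_chart i σ l rfl).le hl⟩
  obtain ⟨r, -, τ, hτ⟩ := S3572.result n (specULiftZIsTerminal.from X) L hL s
    (VeryAmple.generatedBy_of_locus s hcov)
  let S₀ : Scheme.{u} := Spec (CommRingCat.of k)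
  let π : CohB1.ProjSpaceOver n S₀ ⟶ CohB1.ProjSpace n (ULift.{u} ℤ) :=
    pullback.fst (CohB1.ProjSpace.toSpec n (ULift.{u} ℤ)) (specULiftZIsTerminal.from S₀)
  let i' : X ⟶ CohB1.ProjSpaceOver n S₀ := pullback.lift r q (specULiftZIsTerminal.hom_ext _ _)
  have hfst : i' ≫ π = r := pullback.lift_fst _ _ _
  have hsnd : i' ≫ CohB1.ProjSpaceOver.toBase n S₀ = q := pullback.lift_snd _ _ _
  haveI : IsProper (CohB1.ProjSpace.toSpec n (ULift.{u} ℤ)) := PnCoh.Chow.isProper_toSpec n _
  haveI : IsProper (CohB1.ProjSpaceOver.toBase n S₀) :=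
    inferInstanceAs (IsProper (pullback.snd (CohB1.ProjSpace.toSpec n (ULift.{u} ℤ)) (specULiftZIsTerminal.from S₀)))
  haveI : IsProper i' := by
    haveI : IsProper (i' ≫ CohB1.ProjSpaceOver.toBase n S₀) := hsnd.symm ▸ ‹IsProper q›
    exact IsProper.of_comp i' (CohB1.ProjSpaceOver.toBase n S₀)
  haveI : Mono i' := ⟨fun {T} a b hab => by
    have hq : a ≫ q = b ≫ q := by rw [← hsnd, reassoc_of% hab]
    have hr : a ≫ r = b ≫ r := by rw [← hfst, reassoc_of% hab]
    refine (cancel_mono i).1 (S3573.result n (a ≫ i) (b ≫ i) (by simp only [Category.assoc, hi]; exact hq) ?_ ?_)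
    · exact ((Scheme.Modules.pullbackComp a i).app _).symm ≪≫ (Scheme.Modules.pullback a).mapIso (σ ≪≫ τ.symm) ≪≫
        (Scheme.Modules.pullbackComp a r).app _ ≪≫ (Scheme.Modules.pullbackCongr hr).app _ ≪≫
        ((Scheme.Modules.pullbackComp b r).app _).symm ≪≫ (Scheme.Modules.pullback b).mapIso (τ ≪≫ σ.symm) ≪≫
        (Scheme.Modules.pullbackComp b i).app _
    · intro l
      let O := Twist.twistProjSpace n k 1
      let O₁ := Twist.twistProjSpace n (ULift.{u} ℤ) 1
      let c := ProjUP.coord n k l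
      let c₁ := ProjUP.coord n (ULift.{u} ℤ) l
      have e1 : (σ ≪≫ τ.symm).hom.app ⊤ (FComplLib.pullTop i O c) = FComplLib.pullTop r O₁ c₁ :=
        (congrArg (τ.inv.app ⊤) (hτ l).symm).trans (congrArg (fun φ => Scheme.Modules.Hom.app φ ⊤ _) τ.hom_inv_id)
      have e2 : (τ ≪≫ σ.symm).hom.app ⊤ (FComplLib.pullTop r O₁ c₁) = FComplLib.pullTop i O c :=
        (congrArg (σ.inv.app ⊤) (hτ l)).trans (congrArg (fun φ => Scheme.Modules.Hom.app φ ⊤ _) σ.hom_inv_id)
      show ((Scheme.Modules.pullbackComp b i).hom.app O).app ⊤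
        (((Scheme.Modules.pullback b).map (τ ≪≫ σ.symm).hom).app ⊤
        (((Scheme.Modules.pullbackComp b r).inv.app O₁).app ⊤
        (((Scheme.Modules.pullbackCongr hr).hom.app O₁).app ⊤
        (((Scheme.Modules.pullbackComp a r).hom.app O₁).app ⊤
        (((Scheme.Modules.pullback a).map (σ ≪≫ τ.symm).hom).app ⊤
        (((Scheme.Modules.pullbackComp a i).inv.app O).app ⊤ (FComplLib.pullTop (a ≫ i) O c))))))) =
          FComplLib.pullTop (b ≫ i) O c
      have hinv : ∀ {V W Y : Scheme.{u}} (a : V ⟶ W) (i : W ⟶ Y) (G : Y.Modules) (x : Γ(G, ⊤)),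
          ((Scheme.Modules.pullbackComp a i).inv.app G).app ⊤ (FComplLib.pullTop (a ≫ i) G x) =
            FComplLib.pullTop a _ (FComplLib.pullTop i G x) := fun a i G x => by
        rw [← FComplLib.pullTop_comp a i G x]
        exact congrArg (fun φ => Scheme.Modules.Hom.app φ ⊤ _) ((Scheme.Modules.pullbackComp a i).hom_inv_id_app G)
      rw [hinv, FComplLib.pullTop_naturality, e1, FComplLib.pullTop_comp, FComplLib.pullTop_congr, hinv,
        FComplLib.pullTop_naturality, e2, FComplLib.pullTop_comp]⟩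
  haveI : IsClosedImmersion i' := (IsClosedImmersion.iff_isProper_and_mono i').2 ⟨inferInstance, inferInstance⟩
  exact ⟨n, i', inferInstance, hsnd, ⟨τ.symm ≪≫ (Scheme.Modules.pullbackCongr hfst.symm).app _ ≪≫
    ((Scheme.Modules.pullbackComp i' π).app _).symm⟩⟩

variable {X S : Scheme.{u}} (f : X ⟶ S) [IsProper f] [Smooth f]

/-- The differentials restrict to the differentials of the fibres. -/
theorem nonempty_omega_fibre (s : S) :
    Nonempty ((Scheme.Modules.pullback (f.fiberι s)).obj (Omega.sheaf f) ≅ Omega.sheaf (f.fiberToSpecResidueField s)) := by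
  have hpb : IsPullback (f.fiberι s) (f.fiberToSpecResidueField s) f (S.fromSpecResidueField s) :=
    IsPullback.of_hasPullback _ _
  haveI : IsProper (f.fiberToSpecResidueField s) := MorphismProperty.of_isPullback hpb ‹IsProper f›
  obtain ⟨c, hc, -⟩ := S9370.result f (f.fiberToSpecResidueField s) (f.fiberι s) (S.fromSpecResidueField s)
    hpb.w.symm _ _ (OmegaUniv.isUniversal_dOmega _) _ _ (OmegaUniv.isUniversal_dOmega _)
  haveI := S9386.result _ _ (f.fiberι s) _ hpb _ _ (OmegaUniv.isUniversal_dOmega f) _ _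
    (OmegaUniv.isUniversal_dOmega (f.fiberToSpecResidueField s)) c hc
  exact ⟨asIso c⟩

variable [GeometricallyConnected f] (hdim : ∀ s : S, topologicalKrullDim ↥(f.fiber s) = 1)

include hdim

/-- The differentials of a family of smooth curves form an invertible module. -/
theorem isInvertible_omega : PicF.IsInvertible (Omega.sheaf f) := by
  have hlf : FlatMod.IsFinLocFree (Omega.sheaf f) :=
    S5018.result f ((S1488.result f).1 inferInstance).2 _ _ (OmegaUniv.isUniversal_dOmega f)
  intro x
  obtain ⟨U, n, hx, ⟨e⟩⟩ := hlf x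
  let s := f x
  letI : (f.fiber s).Over (Spec (CommRingCat.of (S.residueField s))) := ⟨f.fiberToSpecResidueField s⟩
  haveI : IsProper ((f.fiber s) ↘ Spec (CommRingCat.of (S.residueField s))) :=
    inferInstanceAs (IsProper (pullback.snd f (S.fromSpecResidueField s)))
  haveI : Smooth ((f.fiber s) ↘ Spec (CommRingCat.of (S.residueField s))) :=
    inferInstanceAs (Smooth (pullback.snd f (S.fromSpecResidueField s)))
  haveI : GeometricallyConnected ((f.fiber s) ↘ Spec (CommRingCat.of (S.residueField s))) :=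
    inferInstanceAs (GeometricallyConnected (pullback.snd f (S.fromSpecResidueField s)))
  have h0 := CurveBC.finrank_h0_of_geometricallyConnected (S.residueField s) (f.fiber s)
  have hI := CurveBC.isInvertible_omega (S.residueField s) (f.fiber s) (hdim s) h0
  obtain ⟨eΩ⟩ := nonempty_omega_fibre f s
  obtain ⟨z, hz⟩ : x ∈ Set.range (f.fiberι s) := by rw [f.range_fiberι]; rfl
  have h1 := InvEnd.isFinLocFreeOfRank_one (H23.PicMul.isInvertible_of_iso eΩ.symm hI)
  have h1' : FlatMod.IsFinLocFreeOfRank 1 (((Scheme.Modules.pullback (f.fiberι s)).obj (Omega.sheaf f)).restrict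
      (f.fiberι s ⁻¹ᵁ U).ι) := InvEnd.isFinLocFreeOfRank_one (AmpleX.isInvertible_restrict _
        (H23.PicMul.isInvertible_of_iso eΩ.symm hI))
  have hn : FlatMod.IsFinLocFreeOfRank n (((Scheme.Modules.pullback (f.fiberι s)).obj (Omega.sheaf f)).restrict
      (f.fiberι s ⁻¹ᵁ U).ι) := fun w => ⟨⊤, trivial, ⟨(Scheme.Modules.restrictFunctor _).mapIso
        (((H23.PullPush.pullRestrictIso (f.fiberι s) U).app _).symm ≪≫
          (Scheme.Modules.pullback ((f.fiberι s) ∣_ U)).mapIso e ≪≫ KFlatLib.pullFreeIso _ _) ≪≫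
        QCoh.freeModRestrict _ n⟩⟩
  haveI : Nonempty ↥((f.fiberι s ⁻¹ᵁ U) : Scheme.{u}) := ⟨⟨z, show f.fiberι s z ∈ U by rw [hz]; exact hx⟩⟩
  obtain rfl := PnVan.rank_unique hn h1'
  exact ⟨U, hx, ⟨e ≪≫ coproductUniqueIso _⟩⟩

variable (g : ℕ) (hg : 2 ≤ g)
  (hgen : ∀ s : S, letI : (f.fiber s).Over (Spec (S.residueField s)) := ⟨f.fiberToSpecResidueField s⟩
      Curv2.genus (S.residueField s) (f.fiber s) = g)
  (n : ℕ) (hn : 3 ≤ n)

include hg hgen hn

/-- Pluricanonical modules of degree at least `2g+1` on the fibres. -/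
theorem fibre_facts (s : S) :
    RelAmple.IsRelVeryAmplePn (f.fiberToSpecResidueField s)
        ((Scheme.Modules.pullback (f.fiberι s)).obj (CohB1.tensorPow (Omega.sheaf f) n)) ∧
      Subsingleton (Coh.HH (f.fiber s) ((Scheme.Modules.pullback (f.fiberι s)).obj (CohB1.tensorPow (Omega.sheaf f) n)) 1) := by
  letI : (f.fiber s).Over (Spec (CommRingCat.of (S.residueField s))) := ⟨f.fiberToSpecResidueField s⟩
  haveI : IsProper ((f.fiber s) ↘ Spec (CommRingCat.of (S.residueField s))) :=
    inferInstanceAs (IsProper (pullback.snd f (S.fromSpecResidueField s)))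
  haveI : Smooth ((f.fiber s) ↘ Spec (CommRingCat.of (S.residueField s))) :=
    inferInstanceAs (Smooth (pullback.snd f (S.fromSpecResidueField s)))
  haveI : GeometricallyConnected ((f.fiber s) ↘ Spec (CommRingCat.of (S.residueField s))) :=
    inferInstanceAs (GeometricallyConnected (pullback.snd f (S.fromSpecResidueField s)))
  have h0 := CurveBC.finrank_h0_of_geometricallyConnected (S.residueField s) (f.fiber s)
  haveI := geometricallyIntegral (S.residueField s) (f.fiber s) h0
  haveI := CurveBC.isIntegral_of_h0 (S.residueField s) (f.fiber s) h0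
  obtain ⟨eΩ⟩ := nonempty_omega_fibre f s
  obtain ⟨eP⟩ := HilbSnap.pullback_tensorPow (f.fiberι s) (Omega.sheaf f) n
  let M := (Scheme.Modules.pullback (f.fiberι s)).obj (Omega.sheaf f)
  have hM : PicF.IsInvertible M := PicClLib.isInvertible_pullback _ (isInvertible_omega f hdim)
  have hdM : Curv2.deg (S.residueField s) (f.fiber s) M 1 = 2 * (g : ℤ) - 2 := by
    refine (CurveRR.deg_congr (S.residueField s) (show M ≅ _ from eΩ) 1).trans
      (((CurveBC.canonical_invariants (S.residueField s) (f.fiber s) (hdim s) h0).2).trans ?_)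
    exact congrArg (fun m : ℕ => 2 * (m : ℤ) - 2) (hgen s)
  obtain ⟨hPi, hPd⟩ := S18840.deg_tensorPow (S.residueField s) (hdim s) hM n
  have hd : 2 * (Curv2.genus (S.residueField s) (f.fiber s) : ℤ) + 1 ≤
      Curv2.deg (S.residueField s) (f.fiber s) (CohB1.tensorPow M n) 1 := by
    rw [hPd, hdM, show Curv2.genus (S.residueField s) (f.fiber s) = g from hgen s]
    have : (3 : ℤ) ≤ n := by exact_mod_cast hn
    have : (2 : ℤ) ≤ g := by exact_mod_cast hg
    nlinarith
  obtain ⟨m, i, hi, hic, ⟨ei⟩⟩ := CurveVA.exists_embedding (S.residueField s) (f.fiber s) (hdim s) h0 hPi hd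
  refine ⟨?_, QCoh.subsingleton_HH_of_iso eP.symm 1
    (CurveVA.subsingleton_h1_of_deg (S.residueField s) (hdim s) h0 hPi (by linarith))⟩
  haveI := hi
  haveI : IsProper (f.fiberToSpecResidueField s) :=
    inferInstanceAs (IsProper (pullback.snd f (S.fromSpecResidueField s)))
  exact isRelVeryAmplePn_of_embedding _ (PicClLib.isInvertible_pullback _ (InvX.isInvertible_tensorPow (isInvertible_omega f hdim) n)) i hic (ei ≪≫ eP.symm)

/-- The pluricanonical module is relatively very ample. -/
theorem isRelVeryAmple : RelProj.IsRelVeryAmple f (CohB1.tensorPow (Omega.sheaf f) n) :=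
  FibVeryAmple.isRelVeryAmple f (InvX.isInvertible_tensorPow (isInvertible_omega f hdim) n)
    (fun s => (fibre_facts f hdim g hg hgen n hn s).1) (fun s => (fibre_facts f hdim g hg hgen n hn s).2)

/-- Families of smooth curves of genus at least two are projective. -/
theorem isProjective : RelProj.IsProjective f := by
  have hL := InvX.isInvertible_tensorPow (isInvertible_omega f hdim) n
  refine S5728.result f _ hL (isRelVeryAmple f hdim g hg hgen n hn) (QCoh.isFT_of_isFP (QCoh.isFP_of_isFinLocFree ?_))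
  exact PBC.isFinLocFree_of_restrict_top (PBC.isFinLocFree_and_isIso_bc0 f
    (QCoh.isFP_of_isFinLocFree (H23.PullPush.isFinLocFree_of_isInvertible hL))
    (H23.Seesaw.isFlatOver_of_isInvertible f hL) ⊤
    (fun s _ => Or.inr (fibre_facts f hdim g hg hgen n hn s).2)).1

end Groth.Agent.SmoothCurveFam

namespace Groth.Agent.SmoothCurveFam

variable {X S : Scheme.{u}} (f : X ⟶ S) [IsProper f] [Smooth f] [GeometricallyConnected f]

/-- Invertible modules of degree at least `2g+1` on the fibres of a smooth family are very ample. -/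
theorem isRelVeryAmple_of_deg (hdim : ∀ s : S, topologicalKrullDim ↥(f.fiber s) = 1) {L : X.Modules}
    (hL : PicF.IsInvertible L)
    (hdeg : ∀ s : S, letI : (f.fiber s).Over (Spec (S.residueField s)) := ⟨f.fiberToSpecResidueField s⟩
      2 * (Curv2.genus (S.residueField s) (f.fiber s) : ℤ) + 1 ≤
        Curv2.deg (S.residueField s) (f.fiber s) ((Scheme.Modules.pullback (f.fiberι s)).obj L) 1) :
    RelProj.IsRelVeryAmple f L := by
  have key : ∀ s : S, RelAmple.IsRelVeryAmplePn (f.fiberToSpecResidueField s)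
        ((Scheme.Modules.pullback (f.fiberι s)).obj L) ∧
      Subsingleton (Coh.HH (f.fiber s) ((Scheme.Modules.pullback (f.fiberι s)).obj L) 1) := fun s => by
    letI : (f.fiber s).Over (Spec (CommRingCat.of (S.residueField s))) := ⟨f.fiberToSpecResidueField s⟩
    haveI : IsProper (f.fiberToSpecResidueField s) :=
      inferInstanceAs (IsProper (pullback.snd f (S.fromSpecResidueField s)))
    haveI : IsProper ((f.fiber s) ↘ Spec (CommRingCat.of (S.residueField s))) :=
      inferInstanceAs (IsProper (pullback.snd f (S.fromSpecResidueField s)))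
    haveI : Smooth ((f.fiber s) ↘ Spec (CommRingCat.of (S.residueField s))) :=
      inferInstanceAs (Smooth (pullback.snd f (S.fromSpecResidueField s)))
    haveI : GeometricallyConnected ((f.fiber s) ↘ Spec (CommRingCat.of (S.residueField s))) :=
      inferInstanceAs (GeometricallyConnected (pullback.snd f (S.fromSpecResidueField s)))
    have h0 := CurveBC.finrank_h0_of_geometricallyConnected (S.residueField s) (f.fiber s)
    haveI := geometricallyIntegral (S.residueField s) (f.fiber s) h0
    haveI := CurveBC.isIntegral_of_h0 (S.residueField s) (f.fiber s) h0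
    have hLs := PicClLib.isInvertible_pullback (f.fiberι s) hL
    have hd : 2 * (Curv2.genus (S.residueField s) (f.fiber s) : ℤ) + 1 ≤
        Curv2.deg (S.residueField s) (f.fiber s) ((Scheme.Modules.pullback (f.fiberι s)).obj L) 1 := hdeg s
    obtain ⟨m, i, hi, hic, ⟨ei⟩⟩ := CurveVA.exists_embedding (S.residueField s) (f.fiber s) (hdim s) h0 hLs hd
    haveI := hi
    exact ⟨isRelVeryAmplePn_of_embedding _ hLs i hic ei,
      CurveVA.subsingleton_h1_of_deg (S.residueField s) (hdim s) h0 hLs (by linarith)⟩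
  exact FibVeryAmple.isRelVeryAmple f hL (fun s => (key s).1) fun s => (key s).2

end Groth.Agent.SmoothCurveFam

namespace Groth.Agent.SmoothCurveFam

variable {X S : Scheme.{u}} (f : X ⟶ S) [IsProper f] [Smooth f] [GeometricallyConnected f]

/-- Pluricanonical sections commute with base change. -/
theorem isIso_bc0_pluricanonical (hdim : ∀ s : S, topologicalKrullDim ↥(f.fiber s) = 1) (g : ℕ) (hg : 2 ≤ g)
    (hgen : ∀ s : S, letI : (f.fiber s).Over (Spec (S.residueField s)) := ⟨f.fiberToSpecResidueField s⟩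
      Curv2.genus (S.residueField s) (f.fiber s) = g)
    (n : ℕ) (hn : 2 ≤ n) (T X' : Scheme.{u}) (b : T ⟶ S) (f' : X' ⟶ T) (b' : X' ⟶ X)
    (hsq : IsPullback b' f' f b) :
    IsIso (CohBC.bc0 f b f' b' hsq.w (CohB1.tensorPow (Omega.sheaf f) n)) := by
  have hL := InvX.isInvertible_tensorPow (isInvertible_omega f hdim) n
  refine (PBC.isFinLocFree_and_isIso_bc0 f (QCoh.isFP_of_isFinLocFree (H23.PullPush.isFinLocFree_of_isInvertible hL))
    (H23.Seesaw.isFlatOver_of_isInvertible f hL) ⊤ (fun s _ => Or.inr ?_)).2 T X' b f' b' hsq (fun _ => trivial)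
  letI : (f.fiber s).Over (Spec (CommRingCat.of (S.residueField s))) := ⟨f.fiberToSpecResidueField s⟩
  haveI : IsProper ((f.fiber s) ↘ Spec (CommRingCat.of (S.residueField s))) :=
    inferInstanceAs (IsProper (pullback.snd f (S.fromSpecResidueField s)))
  haveI : Smooth ((f.fiber s) ↘ Spec (CommRingCat.of (S.residueField s))) :=
    inferInstanceAs (Smooth (pullback.snd f (S.fromSpecResidueField s)))
  haveI : GeometricallyConnected ((f.fiber s) ↘ Spec (CommRingCat.of (S.residueField s))) :=
    inferInstanceAs (GeometricallyConnected (pullback.snd f (S.fromSpecResidueField s)))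
  have h0 := CurveBC.finrank_h0_of_geometricallyConnected (S.residueField s) (f.fiber s)
  haveI := geometricallyIntegral (S.residueField s) (f.fiber s) h0
  haveI := CurveBC.isIntegral_of_h0 (S.residueField s) (f.fiber s) h0
  obtain ⟨eΩ⟩ := nonempty_omega_fibre f s
  obtain ⟨eP⟩ := HilbSnap.pullback_tensorPow (f.fiberι s) (Omega.sheaf f) n
  let M := (Scheme.Modules.pullback (f.fiberι s)).obj (Omega.sheaf f)
  have hM : PicF.IsInvertible M := PicClLib.isInvertible_pullback _ (isInvertible_omega f hdim)
  have hdM : Curv2.deg (S.residueField s) (f.fiber s) M 1 = 2 * (g : ℤ) - 2 := by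
    refine (CurveRR.deg_congr (S.residueField s) (show M ≅ _ from eΩ) 1).trans
      (((CurveBC.canonical_invariants (S.residueField s) (f.fiber s) (hdim s) h0).2).trans ?_)
    exact congrArg (fun m : ℕ => 2 * (m : ℤ) - 2) (hgen s)
  obtain ⟨hPi, hPd⟩ := S18840.deg_tensorPow (S.residueField s) (hdim s) hM n
  refine @QCoh.subsingleton_HH_of_iso _ _ _ eP.symm 1
    (CurveVA.subsingleton_h1_of_deg (S.residueField s) (hdim s) h0 hPi ?_)
  rw [hPd, hdM, show Curv2.genus (S.residueField s) (f.fiber s) = g from hgen s]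
  have : (2 : ℤ) ≤ n := by exact_mod_cast hn
  have : (2 : ℤ) ≤ g := by exact_mod_cast hg
  nlinarith

end Groth.Agent.SmoothCurveFam
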