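import Groth.Agent.Lib.AbDualBase
import Groth.Agent.Lib.BaseDescent
import Groth.Agent.Lib.SectionGamma

/-!
Rigidified classes in `Pic⁰` of an abelian scheme are primitive.
-/

set_option linter.style.haveILetI false
set_option linter.unusedSectionVars false
set_option backward.isDefEq.respectTransparency false
set_option backward.isDefEq.respectTransparency.types false
set_option maxHeartbeats 800000

universe u

open CategoryTheory CategoryTheory.Limits MonoidalCategory CartesianMonoidalCategory MonObj AlgebraicGeometry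
open TopologicalSpace

namespace Groth.Agent.PicZeroPrim

open Groth.Agent.AbDualBase
open scoped Groth.Agent.H23.PicMul

variable {S : Scheme.{u}} {X : Over S}

theorem bcMap_eq {A B : Over S} (f : A ⟶ B) (T : Over S) : AbDual.bcMap f T = (f ▷ T).left := by
  refine pullback.hom_ext ?_ ?_
  · rw [bcMap_fst]
    show _ = (f ▷ T).left ≫ (fst B T).left
    rw [← Over.comp_left, whiskerRight_fst]
    rfl
  · rw [bcMap_snd]
    show _ = (f ▷ T).left ≫ (snd B T).left
    rw [← Over.comp_left, whiskerRight_snd]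
    rfl

theorem xtMap_eq {T T' : Over S} (g : T' ⟶ T) : PicF.XTmap X.hom g = (X ◁ g).left := by
  refine pullback.hom_ext ?_ ?_
  · refine ((pullback.lift_fst _ _ _).trans (Category.comp_id _)).trans ?_
    show _ = (X ◁ g).left ≫ (fst X T).left
    rw [← Over.comp_left, whiskerLeft_fst]
    rfl
  · refine (pullback.lift_snd _ _ _).trans ?_
    show _ = (X ◁ g).left ≫ (snd X T).left
    rw [← Over.comp_left, whiskerLeft_snd]
    rfl

theorem secT_eq [GrpObj X] (T : Over S) :
    PicF.secT X.hom η[X].left (Over.w η[X]) T = (lift (toUnit T ≫ η[X]) (𝟙 T)).left := by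
  refine pullback.hom_ext ?_ ?_
  · refine (pullback.lift_fst _ _ _).trans ?_
    show _ = (lift (toUnit T ≫ η[X]) (𝟙 T)).left ≫ (fst X T).left
    rw [← Over.comp_left, lift_fst]
    rfl
  · refine (pullback.lift_snd _ _ _).trans ?_
    show _ = (lift (toUnit T ≫ η[X]) (𝟙 T)).left ≫ (snd X T).left
    rw [← Over.comp_left, lift_snd]
    rfl

/-- Twisting by a class from the base keeps a family in Pic⁰. -/
theorem pz_base_mul {T : Over S} {n : PicF.Cl T.left} (hn : PicF.IsInvertibleCl n) {c : PicF.Cl (PicF.XT X.hom T)}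
    (hc : AbDual.IsPicZeroCl X.hom T c) :
    AbDual.IsPicZeroCl X.hom T (PicF.pullCl (PicF.XTproj X.hom T) n * c) := by
  obtain ⟨L, rfl, hL, hLt⟩ := hc
  obtain ⟨N, rfl, hN⟩ := id hn
  let N' := (Scheme.Modules.pullback (PicF.XTproj X.hom T)).obj N
  refine ⟨CohB1.tensorMod N' L, H23.PicMul.cl_tensor _ _,
    InvX.isInvertible_tensorMod (PicClLib.isInvertible_pullback _ hN) hL, fun t Ω _ _ σ hσ => ?_⟩
  letI : (pullback (PicF.XTproj X.hom T) σ).Over (Spec (CommRingCat.of Ω)) := ⟨pullback.snd _ σ⟩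
  refine AVDual.algEquivZero_of_iso ?_ (hLt t Ω σ hσ)
  refine Nonempty.some ((PicGrp.cl_eq_cl_iff _ _).1 ?_)
  show PicF.pullCl (pullback.fst (PicF.XTproj X.hom T) σ) (PicF.cl L) =
    PicF.pullCl (pullback.fst (PicF.XTproj X.hom T) σ) (PicF.cl (CohB1.tensorMod N' L))
  rw [H23.PicMul.cl_tensor, H23.PicMul.pullCl_mul]
  conv_rhs => rw [show PicF.cl N' = PicF.pullCl (PicF.XTproj X.hom T) (PicF.cl N) from rfl, PicClLib.pullCl_comp,
    pullback.condition, ← PicClLib.pullCl_comp, pullCl_point σ hn, pullCl_one', _root_.one_mul]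

theorem xtMap_self (T : Over S) : PicF.XTmap X.hom (𝟙 T) = 𝟙 _ := by
  rw [xtMap_eq, whiskerLeft_id]
  rfl

variable [GrpObj X]

/-- The map `X × (X × T) ⟶ X × T` acting by `f` on the first factor. -/
noncomputable abbrev act {T : Over S} (f : X ⊗ (X ⊗ T) ⟶ X) : PicF.XT X.hom (X ⊗ T) ⟶ PicF.XT X.hom T :=
  (lift f (snd X (X ⊗ T) ≫ snd X T)).left

theorem act_proj {T : Over S} (f : X ⊗ (X ⊗ T) ⟶ X) :
    act f ≫ PicF.XTproj X.hom T = PicF.XTproj X.hom (X ⊗ T) ≫ (snd X T).left := by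
  show (lift f (snd X (X ⊗ T) ≫ snd X T)).left ≫ (snd X T).left = (snd X (X ⊗ T)).left ≫ (snd X T).left
  rw [← Over.comp_left, lift_snd, Over.comp_left]

theorem act_fst (T : Over S) : act (fst X (X ⊗ T)) = PicF.XTmap X.hom (snd X T) := by
  rw [xtMap_eq]
  congr 1

theorem act_snd (T : Over S) : act (snd X (X ⊗ T) ≫ fst X T) = PicF.XTproj X.hom (X ⊗ T) := by
  show _ = (snd X (X ⊗ T)).left
  unfold act
  congr 1
  ext <;> simp

/-- The family of translates. -/
noncomputable abbrev trans (T : Over S) : PicF.XT X.hom (X ⊗ T) ⟶ PicF.XT X.hom T :=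
  act (fst X (X ⊗ T) * (snd X (X ⊗ T) ≫ fst X T))

theorem sec_trans (T : Over S) :
    PicF.XTmap X.hom (lift (toUnit T ≫ η[X]) (𝟙 T)) ≫ trans T = 𝟙 _ := by
  rw [xtMap_eq]
  show _ = (𝟙 (X ⊗ T) : X ⊗ T ⟶ X ⊗ T).left
  rw [← Over.comp_left]
  congr 1
  ext
  · rw [Category.assoc, lift_fst, MonObj.comp_mul, whiskerLeft_fst, whiskerLeft_snd_assoc, lift_fst,
      ← Category.assoc, comp_toUnit, ← Hom.one_def, _root_.mul_one, Category.id_comp]
  · rw [Category.assoc, lift_snd, whiskerLeft_snd_assoc, lift_snd, Category.comp_id, Category.id_comp]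

variable [IsCommMonObj X] [IsProper X.hom] [Smooth X.hom] [GeometricallyConnected X.hom]

/-- On geometric fibres a class in Pic⁰ is invariant under translations. -/
theorem translate_point {T : Over S} {c : PicF.Cl (PicF.XT X.hom T)} (hc : AbDual.IsPicZeroCl X.hom T c)
    {Ω : Type u} [Field Ω] [IsAlgClosed Ω] {σ : Spec (CommRingCat.of Ω) ⟶ S} (z : Over.mk σ ⟶ X ⊗ T) :
    PicF.pullCl (PicF.XTmap X.hom z) (PicF.pullCl (trans T) c) =
      PicF.pullCl (PicF.XTmap X.hom (z ≫ snd X T)) c := by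
  let U := Over.mk σ
  let q := z ≫ snd X T
  let w := z ≫ fst X T
  let Δ : X ⊗ U ⟶ (X ⊗ U) ⊗ U := lift (𝟙 _) (snd X U)
  haveI := geometricallyIntegral_fibre σ X
  have hadd := congrArg (PicF.pullCl Δ.left)
    (pull_mul σ (fst X U) (snd X U ≫ w) (pz_xtMap q hc))
  rw [H23.PicMul.pullCl_mul] at hadd
  have e1 : Δ.left ≫ AbDual.bcMap (fst X U) U = 𝟙 (X ⊗ U).left := by
    rw [bcMap_eq, ← Over.id_left, ← Over.comp_left]
    congr 1
    ext <;> simp [Δ]
  have e2 : Δ.left ≫ AbDual.bcMap (snd X U ≫ w) U = (snd X U).left ≫ (lift w (𝟙 U)).left := by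
    rw [bcMap_eq, ← Over.comp_left, ← Over.comp_left]
    congr 1
    ext <;> simp [Δ]
  have e3 : Δ.left ≫ AbDual.bcMap (fst X U * (snd X U ≫ w)) U ≫ PicF.XTmap X.hom q =
      PicF.XTmap X.hom z ≫ trans T := by
    rw [bcMap_eq, xtMap_eq, xtMap_eq, ← Over.comp_left, ← Over.comp_left, ← Over.comp_left]
    congr 1
    ext <;> simp [Δ, q, w, MonObj.comp_mul] <;> rfl
  simp only [PicClLib.pullCl_comp] at hadd ⊢
  rw [reassoc_of% e1, reassoc_of% e2, e3] at hadd
  rw [hadd]
  obtain ⟨L, hL⟩ := pz_invertible hc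
  have hpt : PicF.pullCl ((snd X U).left ≫ (lift w (𝟙 U)).left ≫ PicF.XTmap X.hom q) c = 1 := by
    rw [← PicClLib.pullCl_comp, pullCl_point (K := Ω) ((lift w (𝟙 U)).left ≫ PicF.XTmap X.hom q) ⟨L, hL⟩, pullCl_one']
  rw [hpt, _root_.mul_one]

variable {Xt : Over S} [GrpObj Xt] {φ : ∀ T : Over S, PicF.Cl (PicF.XT X.hom T) → (T ⟶ Xt)}
  (hφ : AbDual.IsDualAV Scheme.fppfPrecoverage X Xt φ)
include hφ

/-- The family of translates classifies the constant point. -/
theorem phi_trans {T : Over S} {c : PicF.Cl (PicF.XT X.hom T)} (hc : AbDual.IsPicZeroCl X.hom T c) :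
    φ (X ⊗ T) (PicF.pullCl (trans T) c) = snd X T ≫ φ T c := by
  have hμ : AbDual.IsPicZeroCl X.hom (X ⊗ T) (PicF.pullCl (trans T) c) := pz_of_maps _ _ (act_proj _) hc
  let δ : X ⊗ T ⟶ Xt := φ (X ⊗ T) (PicF.pullCl (trans T) c) * (snd X T ≫ φ T c)⁻¹
  suffices hδ : δ = 1 from mul_inv_eq_one.1 hδ
  let s : T ⟶ X ⊗ T := lift (toUnit T ≫ η[X]) (𝟙 T)
  have hs : s ≫ δ = 1 := by
    show s ≫ (_ * _) = 1
    rw [MonObj.comp_mul, GrpObj.comp_inv, mul_inv_eq_one, ← hφ.relPic.natural _ _ s _ hμ, PicClLib.pullCl_comp,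
      sec_trans, ← Category.assoc, lift_snd, Category.id_comp]
    exact congrArg _ (PicClLib.pullCl_id c)
  let p := (snd X T).left
  haveI : IsProper p := inferInstanceAs (IsProper (pullback.snd X.hom T.hom))
  haveI : Smooth p := inferInstanceAs (Smooth (pullback.snd X.hom T.hom))
  haveI : GeometricallyConnected p := inferInstanceAs (GeometricallyConnected (pullback.snd X.hom T.hom))
  haveI : GeometricallyReduced p := H23.RigidGamma.geometricallyReduced_of_smooth p
  have hsp : s.left ≫ p = 𝟙 T.left := by rw [← Over.comp_left, lift_snd]; rfl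
  have hcol : ∀ t, t ∈ H23.RigidNoeth.collapsed p δ.left := by
    intro t
    refine ⟨η[Xt].left (T.hom t), fun a ha => ?_⟩
    let Ω := AlgebraicClosure ((X ⊗ T).left.residueField a)
    let j : Spec (CommRingCat.of Ω) ⟶ (X ⊗ T).left :=
      Spec.map (CommRingCat.ofHom (algebraMap ((X ⊗ T).left.residueField a) Ω)) ≫ (X ⊗ T).left.fromSpecResidueField a
    have hj : j (IsLocalRing.closedPoint Ω) = a := (X ⊗ T).left.fromSpecResidueField_apply a _
    let z : Over.mk (j ≫ (X ⊗ T).hom) ⟶ X ⊗ T := Over.homMk j rfl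
    have hz : z ≫ δ = 1 := by
      show z ≫ (_ * _) = 1
      rw [MonObj.comp_mul, GrpObj.comp_inv, mul_inv_eq_one, ← hφ.relPic.natural _ _ z _ hμ,
        translate_point hc z, hφ.relPic.natural _ _ _ _ hc]
      exact Category.assoc _ _ _
    have e := congrArg CommaMorphism.left hz
    rw [Hom.one_def] at e
    have e' : δ.left (j (IsLocalRing.closedPoint Ω)) = η[Xt].left ((X ⊗ T).hom (j (IsLocalRing.closedPoint Ω))) :=
      congr($e (IsLocalRing.closedPoint Ω))
    rw [hj] at e'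
    rw [e', show (X ⊗ T).hom a = T.hom (p a) from congr($((Over.w (snd X T)).symm) a), ha]
  have := H23.RigidGen.eq_comp_section p (H23.RigidGamma.constFibres p) s.left hsp δ.left hcol
  have h2 : δ = snd X T ≫ s ≫ δ := Over.OverMorphism.ext this
  rw [h2, hs, MonObj.comp_one]

/-- Rigidified Pic⁰ classes are determined by the point they define. -/
theorem eq_of_phi {T : Over S} {c c' : PicF.Cl (PicF.XT X.hom T)} (hc : AbDual.IsPicZeroCl X.hom T c)
    (hc' : AbDual.IsPicZeroCl X.hom T c') (h : φ T c = φ T c')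
    (hs : PicF.pullCl (PicF.secT X.hom η[X].left (Over.w η[X]) T) c =
      PicF.pullCl (PicF.secT X.hom η[X].left (Over.w η[X]) T) c') : c = c' := by
  obtain ⟨R, hR', hloc⟩ := hφ.relPic.locallyInjective T _ _ hc hc' h
  obtain ⟨Lc, rfl, hLci⟩ := pz_invertible hc
  obtain ⟨L', rfl, hL'i⟩ := pz_invertible hc'
  obtain ⟨M, hM, eM⟩ := H23.PicInv.exists_inverse hL'i
  have hM1 : PicF.cl L' * PicF.cl M = 1 := (PicGrp.cl_eq_cl_iff _ _).2 eM
  let D := CohB1.tensorMod Lc M
  have hD1 : PicF.cl D = PicF.cl Lc * PicF.cl M := H23.PicMul.cl_tensor _ _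
  let f := PicF.XTproj X.hom T
  haveI : IsProper f := inferInstanceAs (IsProper (pullback.snd X.hom T.hom))
  haveI : Smooth f := inferInstanceAs (Smooth (pullback.snd X.hom T.hom))
  haveI : GeometricallyConnected f := inferInstanceAs (GeometricallyConnected (pullback.snd X.hom T.hom))
  haveI : GeometricallyReduced f := H23.RigidGamma.geometricallyReduced_of_smooth f
  let σ := PicF.secT X.hom η[X].left (Over.w η[X]) T
  have hσ : σ ≫ f = 𝟙 _ := pullback.lift_snd _ _ _
  have hf := SectionGamma.bijective_app f (H23.RigidGamma.constFibres f) σ hσ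
  have hframe : ∀ x : T.left, ∃ V : T.left.Opens, x ∈ V ∧ ∃ s : Γ(D, f ⁻¹ᵁ V), InvX.IsFrame s := by
    intro x
    obtain ⟨J, U, g, rfl⟩ := R.exists_eq_ofArrows
    obtain ⟨hcov, hflat⟩ := (Scheme.ofArrows_mem_precoverage_iff _).1 hR'
    obtain ⟨i, v, rfl⟩ := hcov x
    haveI : Flat (g i) := (hflat i).1
    let θ : pullback f (g i) ⟶ PicF.XT X.hom (AbDual.ovr T (g i)) :=
      pullback.lift (pullback.fst _ _ ≫ pullback.fst X.hom T.hom) (pullback.snd _ _) (by
        rw [Category.assoc, pullback.condition, ← Category.assoc]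
        exact (congrArg (· ≫ T.hom) (pullback.condition (f := f) (g := g i))).trans (Category.assoc _ _ _))
    have hθ : θ ≫ PicF.XTmap X.hom (AbDual.ovrHom T (g i)) = pullback.fst _ _ := by
      refine pullback.hom_ext ?_ ?_
      · simp [θ, PicF.XTmap]
      · simp [θ, PicF.XTmap]
        exact pullback.condition.symm
    have h2 : PicF.pullCl (pullback.fst f (g i)) (PicF.cl Lc) = PicF.pullCl (pullback.fst f (g i)) (PicF.cl L') := by
      rw [← hθ, ← PicClLib.pullCl_comp θ, ← PicClLib.pullCl_comp θ]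
      exact congrArg (PicF.pullCl θ) (hloc (g i) ⟨i⟩)
    have h3 : PicF.pullCl (pullback.fst f (g i)) (PicF.cl D) =
        PicF.pullCl (pullback.snd f (g i)) (PicF.cl (Coh.structureModule (U i))) := by
      rw [hD1, H23.PicMul.pullCl_mul, h2, ← H23.PicMul.pullCl_mul, hM1, pullCl_one']
      exact (pullCl_one' _).symm
    exact BaseDescent.exists_frame f hf (g i) D (InvX.isInvertible_tensorMod hLci hM)
      InvX.isInvertible_structureModule ((PicGrp.cl_eq_cl_iff _ _).1 h3).some v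
  obtain ⟨N, -, eN⟩ := BaseDescent.exists_base f hf D hframe
  have hDN : PicF.cl D = PicF.pullCl f (PicF.cl N) := (PicGrp.cl_eq_cl_iff _ _).2 eN
  have hN1 : PicF.cl N = 1 := by
    have h4 : PicF.pullCl σ (PicF.cl D) = PicF.cl N := by
      rw [hDN, PicClLib.pullCl_comp, hσ]
      exact PicClLib.pullCl_id _
    rw [← h4, hD1, H23.PicMul.pullCl_mul, show PicF.pullCl σ (PicF.cl Lc) = PicF.pullCl σ (PicF.cl L') from hs,
      ← H23.PicMul.pullCl_mul, hM1, pullCl_one']
  rw [hN1, pullCl_one'] at hDN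
  calc PicF.cl Lc = PicF.cl Lc * (PicF.cl L' * PicF.cl M) := by rw [hM1, _root_.mul_one]
    _ = PicF.cl L' * PicF.cl D := by rw [hD1, mul_left_comm]
    _ = PicF.cl L' := by rw [hDN, _root_.mul_one]

/-- A rigidified class in Pic⁰ is primitive. -/
theorem primitive {T : Over S} {c : PicF.Cl (PicF.XT X.hom T)} (hc : AbDual.IsPicZeroCl X.hom T c)
    (hrig : PicF.pullCl (PicF.secT X.hom η[X].left (Over.w η[X]) T) c = 1) :
    PicF.pullCl (trans T) c =
      PicF.pullCl (PicF.XTproj X.hom (X ⊗ T)) c * PicF.pullCl (PicF.XTmap X.hom (snd X T)) c := by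
  let T' := X ⊗ T
  have hci := pz_invertible hc
  have hμ : AbDual.IsPicZeroCl X.hom T' (PicF.pullCl (trans T) c) := pz_of_maps _ _ (act_proj _) hc
  have h1 : AbDual.IsPicZeroCl X.hom T' (PicF.pullCl (PicF.XTproj X.hom T') c) := by
    rw [← act_snd]
    exact pz_of_maps _ _ (act_proj _) hc
  have hR := pz_base_mul (X := X) (T := T') hci (pz_xtMap (snd X T) hc)
  have heq : φ T' (PicF.pullCl (trans T) c) =
      φ T' (PicF.pullCl (PicF.XTproj X.hom T') c * PicF.pullCl (PicF.XTmap X.hom (snd X T)) c) := by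
    rw [phi_trans hφ hc, phi_mul hφ h1 (pz_xtMap _ hc), phi_base hφ hci h1, _root_.one_mul,
      hφ.relPic.natural _ _ _ _ hc]
  refine eq_of_phi hφ hμ hR heq ?_
  let σ := PicF.secT X.hom η[X].left (Over.w η[X]) T'
  have s1 : σ ≫ trans T = 𝟙 _ := by
    show σ ≫ _ = (𝟙 (X ⊗ T) : X ⊗ T ⟶ X ⊗ T).left
    rw [show σ = _ from secT_eq T', ← Over.comp_left]
    congr 1
    ext <;> simp [T', MonObj.comp_mul, ← Hom.one_def]
  have s2 : σ ≫ PicF.XTmap X.hom (snd X T) = (snd X T).left ≫ PicF.secT X.hom η[X].left (Over.w η[X]) T := by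
    rw [secT_eq, xtMap_eq, show σ = _ from secT_eq T', ← Over.comp_left, ← Over.comp_left]
    congr 1
    ext <;> simp [T']
  have hσ : σ ≫ PicF.XTproj X.hom T' = 𝟙 _ := pullback.lift_snd _ _ _
  rw [H23.PicMul.pullCl_mul, PicClLib.pullCl_comp, PicClLib.pullCl_comp, PicClLib.pullCl_comp, s1, hσ, s2,
    ← PicClLib.pullCl_comp _ (PicF.secT X.hom η[X].left (Over.w η[X]) T), hrig, pullCl_one', _root_.mul_one]

end Groth.Agent.PicZeroPrim
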