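import Groth.Agent.DescLib.DescFinite

/-!
# Descent of compatible families along flat quasi-compact surjections
-/

universe w u

set_option autoImplicit false
set_option linter.style.haveILetI false
set_option backward.isDefEq.respectTransparency false
set_option backward.isDefEq.respectTransparency.types false

open CategoryTheory CategoryTheory.Limits AlgebraicGeometry Desc

namespace Groth.Agent.DescLib

variable {S : Scheme.{u}} {ι : Type w} {X : ι → Scheme.{u}} {f : ∀ i, X i ⟶ S}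

namespace Compat

variable {D : SchDDFam f} {T P : Scheme.{u}} {s : T ⟶ S} (h : P ⟶ T) [Surjective h] [Flat h] [QuasiCompact h]

lemma res_injective_of_cover {c c' : Compat D s} {s₁ : P ⟶ S} (hs : h ≫ s = s₁)
    (e : c.res h s₁ hs = c'.res h s₁ hs) : c = c' := by
  subst hs
  refine ext fun T' t i y hy => hom_ext_of_covering _ (factorSieve_single_mem h t) _ _
    fun T'' r ⟨_, a, ha⟩ => ?_
  have hy' : (r ≫ y) ≫ f i = (r ≫ t) ≫ s := by rw [Category.assoc, hy, Category.assoc]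
  have hy'' : (r ≫ y) ≫ f i = a ≫ h ≫ s := by rw [hy', ← ha, Category.assoc]
  rw [← c.nat r t y hy (r ≫ t) (r ≫ y) rfl rfl hy', ← c'.nat r t y hy (r ≫ t) (r ≫ y) rfl rfl hy']
  refine ((c.pt_congr ha.symm rfl hy' (by rw [Category.assoc]; exact hy'')).trans ?_).trans
    (c'.pt_congr ha.symm rfl hy' (by rw [Category.assoc]; exact hy'')).symm
  exact congrArg (fun d : Compat D (h ≫ s) => (d.pt a _ hy'').1) e

lemma exists_of_cover (c : Compat D (h ≫ s))
    (hc : ∀ ⦃Q : Scheme.{u}⦄ (a b : Q ⟶ P) (e : a ≫ h = b ≫ h),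
      c.res a (a ≫ h ≫ s) rfl = c.res b (a ≫ h ≫ s) (by rw [← Category.assoc, ← e, Category.assoc])) :
    ∃ d : Compat D s, d.res h _ rfl = c := by
  have hp : ∀ ⦃T' : Scheme.{u}⦄ (t : T' ⟶ T) ⦃i : ι⦄ (y : T' ⟶ X i), y ≫ f i = t ≫ s →
      ∃ p : Lifts (D.obj i) y, ∀ ⦃T'' : Scheme.{u}⦄ (r : T'' ⟶ T') (a : T'' ⟶ P) (_ : a ≫ h = r ≫ t)
        (hy : (r ≫ y) ≫ f i = a ≫ h ≫ s), r ≫ p.1 = (c.pt a (r ≫ y) hy).1 := by
    intro T' t i y hy
    have key : ∀ ⦃T'' : Scheme.{u}⦄ (r : T'' ⟶ T') (a : T'' ⟶ P), a ≫ h = r ≫ t →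
        (r ≫ y) ≫ f i = a ≫ h ≫ s := fun T'' r a ha => by
      rw [Category.assoc, hy, ← Category.assoc, ← ha, Category.assoc]
    have indep : ∀ ⦃T'' : Scheme.{u}⦄ (y' : T'' ⟶ X i) (a b : T'' ⟶ P) (e : a ≫ h = b ≫ h)
        (h₁ : y' ≫ f i = a ≫ h ≫ s) (h₂ : y' ≫ f i = b ≫ h ≫ s), (c.pt a y' h₁).1 = (c.pt b y' h₂).1 := by
      intro T'' y' a b e h₁ h₂
      have e' := congrArg (fun d : Compat D (a ≫ h ≫ s) =>
        (d.pt (𝟙 T'') y' (by rw [Category.id_comp]; exact h₁)).1) (hc a b e)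
      exact ((c.pt_congr (Category.id_comp a).symm rfl h₁ (by rw [Category.id_comp]; exact h₁)).trans e').trans
        (c.pt_congr (Category.id_comp b) rfl (by rw [Category.id_comp]; exact h₂) h₂)
    let R : Sieve T' := factorSieve (fun _ : PUnit.{u + 1} => h) t
    obtain ⟨p, hp⟩ := exists_glue R (factorSieve_single_mem h t)
      (fun T'' r hr => (c.pt hr.choose_spec.choose (r ≫ y) (key r _ hr.choose_spec.choose_spec)).1)
      (fun T'' T₃ g r hr r' hr' e => by
        subst e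
        have e₁ : (g ≫ hr.choose_spec.choose) ≫ h = (g ≫ r) ≫ t := by
          rw [Category.assoc, hr.choose_spec.choose_spec, Category.assoc]
        refine (indep _ _ _ (hr'.choose_spec.choose_spec.trans e₁.symm) _ (key _ _ e₁)).trans ?_
        exact c.nat g _ _ _ _ _ rfl (Category.assoc _ _ _).symm _)
    refine ⟨⟨p, hom_ext_of_covering R (factorSieve_single_mem h t) _ _ fun T'' r hr => ?_⟩, fun T'' r a ha hy' => ?_⟩
    · rw [← Category.assoc, hp r hr, (c.pt _ (r ≫ y) (key r _ hr.choose_spec.choose_spec)).2]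
    · have hr : R r := ⟨PUnit.unit, a, ha⟩
      exact (hp r hr).trans (indep _ _ _ (hr.choose_spec.choose_spec.trans ha.symm) _ _)
  choose p hp using hp
  refine ⟨⟨p, ?_, ?_⟩, ext fun T' t i y hy => ?_⟩
  · intro T' T'' g t i y hy t' y' ht hy' hy''
    subst ht hy'
    refine hom_ext_of_covering _ (factorSieve_single_mem h (g ≫ t)) _ _ fun T₃ r ⟨_, a, ha⟩ => ?_
    have h₁ : (r ≫ g ≫ y) ≫ f i = a ≫ h ≫ s := by
      simp only [Category.assoc, reassoc_of% ha, hy]
    refine (hp _ _ hy'' r a ha h₁).trans (Eq.trans ?_ (Category.assoc r g _))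
    rw [hp t y hy (r ≫ g) a (by rw [ha, Category.assoc]) (by rw [Category.assoc r g]; exact h₁)]
    exact c.pt_congr rfl (Category.assoc _ _ _).symm _ _
  · intro T' t i k y y' hy hy'
    refine Subtype.ext (hom_ext_of_covering _ (factorSieve_single_mem h t) _ _ fun T'' r ⟨_, a, ha⟩ => ?_)
    have h₁ : (r ≫ y) ≫ f i = a ≫ h ≫ s := by
      simp only [Category.assoc, reassoc_of% ha, hy]
    have h₂ : (r ≫ y') ≫ f k = a ≫ h ≫ s := by
      simp only [Category.assoc, reassoc_of% ha, hy']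
    rw [hp t y' hy' r a ha h₂, ← D.φ_natural r y y' (hy.trans hy'.symm) (r ≫ y) (r ≫ y') rfl rfl
      (h₁.trans h₂.symm) (p t y hy) (c.pt a (r ≫ y) h₁) (hp t y hy r a ha h₁).symm,
      c.comp a (r ≫ y) (r ≫ y') h₁ h₂]
  · show (p (t ≫ h) y _).1 = _
    rw [← Category.id_comp (p (t ≫ h) y _).1,
      hp (t ≫ h) y _ (𝟙 T') t (Category.id_comp _).symm (by rw [Category.id_comp]; exact hy)]
    exact c.pt_congr rfl (Category.id_comp _) _ _

end Compat

/-- Transport of points of a representing object along equality of the base points. -/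
lemma repOn_unique {D : SchDDFam f} {S' : Scheme.{u}} {j : S' ⟶ S} {U : Over S'} {c₀ : Compat D (U.hom ≫ j)}
    (hu : ∀ ⦃T : Scheme.{u}⦄ (x : T ⟶ S') (c : Compat D (x ≫ j)),
      ∃! p : Lifts U x, c₀.res p.1 (x ≫ j) (by rw [← Category.assoc, p.2]) = c)
    {T : Scheme.{u}} (a b : T ⟶ U.left) (h : a ≫ U.hom = b ≫ U.hom)
    (e : c₀.res a (a ≫ U.hom ≫ j) rfl = c₀.res b (a ≫ U.hom ≫ j) (by rw [← Category.assoc, ← h, Category.assoc])) :
    a = b := by
  obtain ⟨p, -, huniq⟩ := hu (a ≫ U.hom) (c₀.res a _ (Category.assoc _ _ _).symm)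
  have h1 := huniq ⟨a, rfl⟩ rfl
  have h2 := huniq ⟨b, h.symm⟩ (by
    have := congrArg (fun d : Compat D (a ≫ U.hom ≫ j) => d.res (𝟙 T) ((a ≫ U.hom) ≫ j) (by simp)) e
    rw [Compat.res_res _ _ _ _ _ _ _ a (Category.id_comp a) (by rw [Category.assoc]),
      Compat.res_res _ _ _ _ _ _ _ b (Category.id_comp b) (by rw [h, Category.assoc])] at this
    exact this.symm)
  exact congrArg Subtype.val (h1.trans h2.symm)

section finite

variable {D : SchDDFam f} {V V' : Scheme.{u}} {g : V' ⟶ V} {j : V ⟶ S} {U : Over V'}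
  {c₀ : Compat D (U.hom ≫ g ≫ j)}

variable (hu : ∀ ⦃T : Scheme.{u}⦄ (x : T ⟶ V') (c : Compat D (x ≫ g ≫ j)),
      ∃! p : Lifts U x, c₀.res p.1 (x ≫ g ≫ j) (by rw [← Category.assoc, p.2]) = c)

lemma base_congr {T : Scheme.{u}} {x₀ x₁ : T ⟶ V'} (h : x₀ ≫ g = x₁ ≫ g) :
    x₀ ≫ g ≫ j = x₁ ≫ g ≫ j := by rw [← Category.assoc, h, Category.assoc]

lemma lifts_base {T : Scheme.{u}} {x : T ⟶ V'} (v : Lifts U x) : v.1 ≫ U.hom ≫ g ≫ j = x ≫ g ≫ j := by
  rw [← Category.assoc, v.2]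

include hu in
lemma lifts_eq_of_res {T : Scheme.{u}} {x : T ⟶ V'} (v w : Lifts U x)
    (e : c₀.res v.1 (x ≫ g ≫ j) (lifts_base v) = c₀.res w.1 (x ≫ g ≫ j) (lifts_base w)) : v = w := by
  obtain ⟨p, -, huniq⟩ := hu x (c₀.res w.1 (x ≫ g ≫ j) (lifts_base w))
  exact (huniq v e).trans (huniq w rfl).symm

/-- The point over another lift of the base with the same compatible family. -/
noncomputable def move {T : Scheme.{u}} (x₀ x₁ : T ⟶ V') (h : x₀ ≫ g = x₁ ≫ g) (v : Lifts U x₀) : Lifts U x₁ :=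
  (hu x₁ (c₀.res v.1 (x₁ ≫ g ≫ j) ((lifts_base v).trans (base_congr h)))).exists.choose

lemma res_move {T : Scheme.{u}} (x₀ x₁ : T ⟶ V') (h : x₀ ≫ g = x₁ ≫ g) (v : Lifts U x₀) (s : T ⟶ S)
    (h₁ : (move hu x₀ x₁ h v).1 ≫ U.hom ≫ g ≫ j = s) (h₂ : v.1 ≫ U.hom ≫ g ≫ j = s) :
    c₀.res (move hu x₀ x₁ h v).1 s h₁ = c₀.res v.1 s h₂ := by
  obtain rfl : s = x₁ ≫ g ≫ j := by rw [← h₁, lifts_base]
  exact (hu x₁ (c₀.res v.1 (x₁ ≫ g ≫ j) ((lifts_base v).trans (base_congr h)))).exists.choose_spec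

lemma move_self {T : Scheme.{u}} (x : T ⟶ V') (v : Lifts U x) : move hu x x rfl v = v :=
  lifts_eq_of_res hu _ _ (res_move hu x x rfl v _ _ _)

lemma move_comp {T : Scheme.{u}} (x₀ x₁ x₂ : T ⟶ V') (h : x₀ ≫ g = x₁ ≫ g) (h' : x₁ ≫ g = x₂ ≫ g)
    (v : Lifts U x₀) : move hu x₁ x₂ h' (move hu x₀ x₁ h v) = move hu x₀ x₂ (h.trans h') v :=
  lifts_eq_of_res hu _ _ (((res_move hu x₁ x₂ h' _ _ _ ((lifts_base _).trans (base_congr h'))).trans
    (res_move hu x₀ x₁ h v _ _ ((lifts_base v).trans (base_congr (h.trans h'))))).trans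
      (res_move hu x₀ x₂ (h.trans h') v _ _ _).symm)

/-- The descent datum on a representing scheme. -/
noncomputable def ddOf : SchDD g where
  obj := U
  φ T x₀ x₁ h :=
    { toFun := move hu x₀ x₁ h
      invFun := move hu x₁ x₀ h.symm
      left_inv := fun v => (move_comp hu x₀ x₁ x₀ h h.symm v).trans (move_self hu _ _)
      right_inv := fun v => (move_comp hu x₁ x₀ x₁ h.symm h v).trans (move_self hu _ _) }
  φ_natural T T' q x₀ x₁ h h' v v' hv' := by
    show (move hu _ _ h' v').1 = q ≫ (move hu x₀ x₁ h v).1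
    have e₀ : (q ≫ (move hu x₀ x₁ h v).1) ≫ U.hom = q ≫ x₁ := by rw [Category.assoc, (move hu x₀ x₁ h v).2]
    refine congrArg Subtype.val (lifts_eq_of_res hu (move hu _ _ h' v') ⟨q ≫ (move hu x₀ x₁ h v).1, e₀⟩ ?_)
    rw [res_move hu _ _ h' v' _ _ ((lifts_base v').trans (base_congr h'))]
    refine (Compat.res_congr _ hv' _ _ (by rw [← hv']; exact (lifts_base v').trans (base_congr h'))).trans ?_
    have hq : q ≫ x₁ ≫ g ≫ j = (q ≫ x₁) ≫ g ≫ j := (Category.assoc _ _ _).symm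
    rw [← Compat.res_res c₀ v.1 (x₁ ≫ g ≫ j) ((lifts_base v).trans (base_congr h)) q _ hq (q ≫ v.1) rfl,
      ← res_move hu x₀ x₁ h v (x₁ ≫ g ≫ j) (lifts_base _) _,
      Compat.res_res c₀ (move hu x₀ x₁ h v).1 (x₁ ≫ g ≫ j) (lifts_base _) q _ hq
        (q ≫ (move hu x₀ x₁ h v).1) rfl]
  φ_self T x v := move_self hu x v
  φ_comp T x₀ x₁ x₂ h h' v := move_comp hu x₀ x₁ x₂ h h' v

include hu in
/-- Representability descends along finite locally free surjections when finite sets in the fibres lie in affines. -/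
theorem repOn_descend [Surjective g] [IsFinite g] [Flat g] [LocallyOfFinitePresentation g]
    (hAF : ∀ (E : Set U.left) (v : V), E.Finite → (∀ e ∈ E, g (U.hom e) = v) →
      ∃ O : U.left.Opens, IsAffineOpen O ∧ E ⊆ O) :
    ∃ (W : Over V) (d₀ : Compat D (W.hom ≫ j)) (_ : pullback g W.hom ≅ U.left),
      ∀ ⦃T : Scheme.{u}⦄ (x : T ⟶ V) (c : Compat D (x ≫ j)),
        ∃! p : Lifts W x, d₀.res p.1 (x ≫ j) (by rw [← Category.assoc, p.2]) = c := by
  obtain ⟨W, ⟨I⟩⟩ := effective_of_orbits g (ddOf hu) fun v => by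
    obtain ⟨O, hO, hE⟩ := hAF (IndQA.d₁ g (ddOf hu) ''
        (pullback.fst (IndQA.sv g (ddOf hu)) g ⁻¹' {v})) (IndQA.sv g (ddOf hu) v)
      (((pullback.fst (IndQA.sv g (ddOf hu)) g).finite_preimage_singleton v).image _)
      (by
        rintro _ ⟨r, hr, rfl⟩
        show IndQA.sv g (ddOf hu) (IndQA.d₁ g (ddOf hu) r) = _
        rw [← Scheme.Hom.comp_apply, IndQA.d₁_sv, Scheme.Hom.comp_apply,
          show pullback.fst (IndQA.sv g (ddOf hu)) g r = v from hr])
    exact ⟨O, hO, fun r hr => hE ⟨r, hr, rfl⟩⟩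
  let e : pullback g W.hom ⟶ U.left := I.hom.hom.left
  let e' : U.left ⟶ pullback g W.hom := I.inv.hom.left
  have hee : e ≫ e' = 𝟙 _ := congrArg (fun a => Over.Hom.left (SchDD.Hom.hom a)) I.hom_inv_id
  have he'e : e' ≫ e = 𝟙 _ := congrArg (fun a => Over.Hom.left (SchDD.Hom.hom a)) I.inv_hom_id
  have hef : e ≫ U.hom = pullback.fst g W.hom := Over.w I.hom.hom
  have he'f : e' ≫ pullback.fst g W.hom = U.hom := Over.w I.inv.hom
  let snd : pullback g W.hom ⟶ W.left := pullback.snd g W.hom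
  haveI : IsFinite snd := MorphismProperty.pullback_snd _ _ inferInstance
  haveI : Surjective snd := inferInstanceAs (Surjective (pullback.snd g W.hom))
  haveI : Flat snd := inferInstanceAs (Flat (pullback.snd g W.hom))
  have hebase : e ≫ U.hom ≫ g ≫ j = snd ≫ W.hom ≫ j := by
    rw [← Category.assoc, hef, ← Category.assoc, pullback.condition, Category.assoc]
  -- the universal family
  obtain ⟨d₀, hd₀⟩ := Compat.exists_of_cover (D := D) (s := W.hom ≫ j) snd (c₀.res e _ hebase)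
    fun Q a b hab => by
      have hx : (a ≫ pullback.fst g W.hom) ≫ g = (b ≫ pullback.fst g W.hom) ≫ g := by
        simp only [Category.assoc, pullback.condition]
        exact (Category.assoc _ _ _).symm.trans ((congrArg (· ≫ W.hom) hab).trans (Category.assoc _ _ _))
      have hm := I.hom.comm (a ≫ pullback.fst g W.hom) (b ≫ pullback.fst g W.hom) hx ⟨a, rfl⟩
        ⟨a ≫ e, (Category.assoc _ _ _).trans (congrArg (a ≫ ·) hef)⟩ rfl
      have hcan : (canMap g W (a ≫ pullback.fst g W.hom) (b ≫ pullback.fst g W.hom) hx ⟨a, rfl⟩).1 = b :=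
        pullback.hom_ext (pullback.lift_fst _ _ _) ((pullback.lift_snd _ _ _).trans hab)
      replace hm : (move hu (a ≫ pullback.fst g W.hom) (b ≫ pullback.fst g W.hom) hx
          ⟨a ≫ e, (Category.assoc _ _ _).trans (congrArg (a ≫ ·) hef)⟩).1 = b ≫ e :=
        hm.trans (congrArg (· ≫ e) hcan)
      rw [Compat.res_res _ _ _ _ _ _ _ (a ≫ e) rfl (by rw [Category.assoc, hebase]),
        Compat.res_res _ _ _ _ _ _ _ (b ≫ e) rfl (by rw [Category.assoc, hebase, ← Category.assoc, ← hab,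
          Category.assoc])]
      refine (Eq.trans ?_ (Compat.res_congr c₀ hm _ ?_ _))
      · exact (res_move hu _ _ hx ⟨a ≫ e, _⟩ _ _ _).symm
      · rw [hm, Category.assoc, hebase, ← Category.assoc, ← hab, Category.assoc]
  -- the map to the descended scheme
  let ρ : U.left ⟶ W.left := e' ≫ snd
  have hρW : ρ ≫ W.hom = U.hom ≫ g := by
    rw [← he'f]; simp [ρ, snd, pullback.condition]
  have hρ : d₀.res ρ (U.hom ≫ g ≫ j) (by rw [← Category.assoc, hρW, Category.assoc]) = c₀ := by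
    rw [← Compat.res_res d₀ snd (snd ≫ W.hom ≫ j) rfl e' _
      (by rw [← hebase, ← Category.assoc e', he'e, Category.id_comp]) ρ rfl, hd₀,
      Compat.res_res _ _ _ _ _ _ _ (𝟙 _) he'e (by rw [Category.id_comp]), Compat.res_id]
  have hρeq : ∀ {Q : Scheme.{u}} {x₀ x₁ : Q ⟶ V'} (h : x₀ ≫ g = x₁ ≫ g) (v : Lifts U x₀) (w : Lifts U x₁),
      c₀.res v.1 (x₁ ≫ g ≫ j) ((lifts_base v).trans (base_congr h)) = c₀.res w.1 (x₁ ≫ g ≫ j) (lifts_base w) →
      v.1 ≫ ρ = w.1 ≫ ρ := by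
    intro Q x₀ x₁ h v w hvw
    have hmw : move hu x₀ x₁ h v = w :=
      lifts_eq_of_res hu _ _ ((res_move hu x₀ x₁ h v _ _ _).trans hvw)
    have hc := I.inv.comm x₀ x₁ h v ⟨v.1 ≫ e', ((Category.assoc _ _ _).trans (congrArg (v.1 ≫ ·) he'f)).trans v.2⟩ rfl
    replace hc : (canMap g W x₀ x₁ h ⟨v.1 ≫ e', ((Category.assoc _ _ _).trans (congrArg (v.1 ≫ ·) he'f)).trans v.2⟩).1 =
        (move hu x₀ x₁ h v).1 ≫ e' := hc
    rw [hmw] at hc
    have := congrArg (· ≫ pullback.snd g W.hom) hc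
    simp only [canMap_val, pullback.lift_snd, Category.assoc] at this
    exact this
  refine ⟨W, d₀, ⟨e, e', hee, he'e⟩, fun T x c => ?_⟩
  let h' : pullback x g ⟶ T := pullback.fst x g
  let y : pullback x g ⟶ V' := pullback.snd x g
  haveI : IsFinite h' := MorphismProperty.pullback_fst _ _ inferInstance
  haveI : Surjective h' := inferInstanceAs (Surjective (pullback.fst x g))
  haveI : Flat h' := inferInstanceAs (Flat (pullback.fst x g))
  have hh' : h' ≫ x ≫ j = y ≫ g ≫ j := pullback.condition_assoc _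
  obtain ⟨q, hq, hquniq⟩ := hu y (c.res h' _ hh')
  let R : Sieve T := factorSieve (fun _ : PUnit.{u + 1} => h') (𝟙 T)
  obtain ⟨p, hp⟩ := exists_glue R (factorSieve_single_mem h' (𝟙 T))
    (fun Q r hr => hr.choose_spec.choose ≫ q.1 ≫ ρ)
    (fun Q Q' k r hr r' hr' hk => by
      have hab : hr'.choose_spec.choose ≫ h' = (k ≫ hr.choose_spec.choose) ≫ h' := by
        rw [hr'.choose_spec.choose_spec, Category.assoc, hr.choose_spec.choose_spec, hk, Category.assoc]
      generalize hr'.choose_spec.choose = a at hab ⊢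
      rw [← Category.assoc k]
      generalize k ≫ hr.choose_spec.choose = b at hab ⊢
      have hy : (a ≫ y) ≫ g = (b ≫ y) ≫ g := by
        simp only [Category.assoc, y, ← pullback.condition]
        simpa [h', Category.assoc] using congrArg (· ≫ x) hab
      rw [← Category.assoc, ← Category.assoc b]
      refine hρeq hy ⟨a ≫ q.1, by rw [Category.assoc, q.2]⟩ ⟨b ≫ q.1, by rw [Category.assoc, q.2]⟩ ?_
      have hs : ∀ z : Q' ⟶ pullback x g, z ≫ h' = b ≫ h' → z ≫ y ≫ g ≫ j = (b ≫ y) ≫ g ≫ j := fun z hz => by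
        rw [← hh', ← Category.assoc, hz, Category.assoc, Category.assoc, hh']
      rw [← Compat.res_res c₀ q.1 (y ≫ g ≫ j) (lifts_base q) a _ (hs a hab) (a ≫ q.1) rfl,
        ← Compat.res_res c₀ q.1 (y ≫ g ≫ j) (lifts_base q) b _ (hs b rfl) (b ≫ q.1) rfl, hq,
        Compat.res_res c h' _ hh' a _ (hs a hab) (a ≫ h') rfl (by rw [hab, Category.assoc, hh', Category.assoc]),
        Compat.res_res c h' _ hh' b _ (hs b rfl) (b ≫ h') rfl (by rw [Category.assoc, hh', Category.assoc])]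
      exact Compat.res_congr _ hab _ _ _)
  have hpR : h' ≫ p = q.1 ≫ ρ := by
    have hR : R h' := ⟨PUnit.unit, 𝟙 _, by simp⟩
    rw [hp h' hR]
    have hab : hR.choose_spec.choose ≫ h' = h' := hR.choose_spec.choose_spec.trans (Category.comp_id _)
    generalize hR.choose_spec.choose = a at hab ⊢
    have hy : (a ≫ y) ≫ g = y ≫ g := by
      simp only [Category.assoc, y, ← pullback.condition]
      simpa [h', Category.assoc] using congrArg (· ≫ x) hab
    rw [← Category.assoc]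
    refine hρeq hy ⟨a ≫ q.1, by rw [Category.assoc, q.2]⟩ q ?_
    have hs : a ≫ y ≫ g ≫ j = y ≫ g ≫ j := by rw [← hh', ← Category.assoc, hab]
    rw [← Compat.res_res c₀ q.1 (y ≫ g ≫ j) (lifts_base q) a _ hs (a ≫ q.1) rfl, hq,
      Compat.res_res c h' _ hh' a _ hs (a ≫ h') rfl (by rw [hab, hh'])]
    exact Compat.res_congr _ hab _ _ _
  have hpx : p ≫ W.hom = x := by
    refine hom_ext_of_covering _ (factorSieve_single_mem h' (𝟙 T)) _ _ fun Q r ⟨_, a, ha⟩ => ?_
    rw [Category.comp_id] at ha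
    rw [← ha, Category.assoc, reassoc_of% hpR, hρW, ← Category.assoc q.1, q.2, Category.assoc, ← pullback.condition]
  have hpj : p ≫ W.hom ≫ j = x ≫ j := by rw [← Category.assoc, hpx]
  refine ⟨⟨p, hpx⟩, ?_, fun p' hp' => ?_⟩
  · refine Compat.res_injective_of_cover h' hh' ?_
    rw [Compat.res_res d₀ p _ hpj h' _ hh' (q.1 ≫ ρ) hpR,
      ← Compat.res_res d₀ ρ (U.hom ≫ g ≫ j) (by rw [← Category.assoc, hρW, Category.assoc]) q.1 _ (lifts_base q)
        (q.1 ≫ ρ) rfl, hρ]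
    · exact hq
    · rw [Category.assoc, ← Category.assoc ρ, hρW, ← lifts_base q, Category.assoc]
  · refine Subtype.ext (hom_ext_of_covering _ (factorSieve_single_mem h' (𝟙 T)) _ _ fun Q r ⟨_, a, ha⟩ => ?_)
    rw [Category.comp_id] at ha
    rw [← ha, Category.assoc, Category.assoc]
    refine congrArg (a ≫ ·) (Eq.trans ?_ hpR.symm)
    let l : pullback x g ⟶ pullback g W.hom := pullback.lift y (h' ≫ p'.1) (by
      rw [Category.assoc, p'.2]; exact pullback.condition.symm)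
    have hl : (l ≫ e) ≫ U.hom = y := by rw [Category.assoc, hef, pullback.lift_fst]
    have hle : (⟨l ≫ e, hl⟩ : Lifts U y) = q := hquniq _ (by
      show c₀.res (l ≫ e) _ _ = _
      rw [← Compat.res_res c₀ e _ hebase l _ (by rw [← hebase, ← Category.assoc, ← Category.assoc (l ≫ e), hl])
          (l ≫ e) rfl, ← hd₀, Compat.res_res d₀ snd _ rfl l _ _ (h' ≫ p'.1) (pullback.lift_snd _ _ _),
        ← Compat.res_res d₀ p'.1 (x ≫ j) (by rw [← Category.assoc, p'.2]) h' _ hh' (h' ≫ p'.1) rfl]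
      · exact congrArg (fun d => Compat.res d h' (y ≫ g ≫ j) hh') hp'
      · rw [Category.assoc, ← Category.assoc p'.1, p'.2, hh'])
    rw [← hle]
    show h' ≫ p'.1 = (l ≫ e) ≫ e' ≫ snd
    rw [Category.assoc, reassoc_of% hee]
    exact (pullback.lift_snd _ _ _).symm

end finite

end Groth.Agent.DescLib
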