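import Groth.Agent.Lib.SmoothCurveFam
import Groth.Agent.CurveFibDeg.Geom
import Groth.Agent.AlgSpLib.Descends
import Groth.Agent.AlgSpLib.Descends2

/-!
# Families of smooth curves of fixed genus: base change and descent
-/

set_option autoImplicit false
set_option linter.style.haveILetI false
set_option backward.isDefEq.respectTransparency false
set_option backward.isDefEq.respectTransparency.types false

universe u

open CategoryTheory CategoryTheory.Limits AlgebraicGeometry

noncomputable section

namespace Groth.Agent.CurveFamDesc

open Groth.Agent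

/-- A proper smooth family of geometrically connected curves of genus `g`. -/
structure IsCurve (g : ℕ) {X S : Scheme.{u}} (f : X ⟶ S) : Prop where
  proper : IsProper f
  smooth : Smooth f
  conn : GeometricallyConnected f
  dim : ∀ s : S, topologicalKrullDim ↥(f.fiber s) = 1
  gen : ∀ s : S, letI : (f.fiber s).Over (Spec (S.residueField s)) := ⟨f.fiberToSpecResidueField s⟩
      Curv2.genus (S.residueField s) (f.fiber s) = g

variable {X S : Scheme.{u}} {f : X ⟶ S}

/-- The fibre over a field valued point is a field extension of the fibre over its image. -/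
theorem fieldFibre [IsProper f] {Ω : Type u} [Field Ω] (r : Spec (CommRingCat.of Ω) ⟶ S) {Z : Scheme.{u}}
    {a : Z ⟶ X} {b : Z ⟶ Spec (CommRingCat.of Ω)} (hsq : IsPullback a b f r) (x : Spec (CommRingCat.of Ω))
    (s₀ : S) (hs₀ : r x = s₀) :
    (topologicalKrullDim ↥Z = topologicalKrullDim ↥(f.fiber s₀)) ∧
      (letI : Z.Over (Spec (CommRingCat.of Ω)) := ⟨b⟩
       letI : (f.fiber s₀).Over (Spec (S.residueField s₀)) := ⟨f.fiberToSpecResidueField s₀⟩
       Curv2.genus Ω Z = Curv2.genus (S.residueField s₀) (f.fiber s₀)) := by
  subst hs₀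
  obtain rfl : x = IsLocalRing.closedPoint Ω :=
    @Subsingleton.elim _ (inferInstanceAs (Subsingleton (PrimeSpectrum Ω))) _ _
  let s := r (IsLocalRing.closedPoint Ω)
  let ψ := Scheme.descResidueField (Scheme.stalkClosedPointTo r)
  have hr : Spec.map ψ ≫ S.fromSpecResidueField s = r :=
    Scheme.descResidueField_stalkClosedPointTo_fromSpecResidueField Ω S r
  let h : Z ⟶ f.fiber s := pullback.lift a (b ≫ Spec.map ψ) (by rw [Category.assoc, hr, hsq.w])
  have hpb : IsPullback h b (f.fiberToSpecResidueField s) (Spec.map ψ) := by
    refine IsPullback.of_right ?_ (pullback.lift_snd _ _ _) (IsPullback.of_hasPullback f (S.fromSpecResidueField s))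
    rw [show h ≫ pullback.fst f (S.fromSpecResidueField s) = a from pullback.lift_fst _ _ _, hr]
    exact hsq
  haveI : IsProper (f.fiberToSpecResidueField s) :=
    inferInstanceAs (IsProper (pullback.snd f (S.fromSpecResidueField s)))
  haveI : IsProper b := MorphismProperty.of_isPullback hsq ‹IsProper f›
  constructor
  · haveI : Subsingleton ↥(Spec (S.residueField s)) := inferInstanceAs (Subsingleton (PrimeSpectrum _))
    haveI : Subsingleton ↥(Spec (CommRingCat.of Ω)) := inferInstanceAs (Subsingleton (PrimeSpectrum Ω))
    exact FibDim.topologicalKrullDim_baseChange hpb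
  · letI : Z.Over (Spec (CommRingCat.of Ω)) := ⟨b⟩
    letI : (f.fiber s).Over (Spec (S.residueField s)) := ⟨f.fiberToSpecResidueField s⟩
    letI : Algebra (S.residueField s) Ω := ψ.hom.toAlgebra
    haveI : CompactSpace ↥(f.fiber s) := QuasiCompact.compactSpace_of_compactSpace (f.fiberToSpecResidueField s)
    haveI : QuasiSeparatedSpace ↥(f.fiber s) :=
      quasiSeparatedSpace_of_quasiSeparated (f.fiberToSpecResidueField s)
    exact CurveBC.genus_eq (S.residueField s) Ω h hpb

/-- Curve families are stable under base change. -/
theorem IsCurve.baseChange {g : ℕ} (hf : IsCurve g f) {X' S' : Scheme.{u}} {f' : X' ⟶ S'} {a : X' ⟶ X} {b : S' ⟶ S}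
    (hsq : IsPullback a f' f b) : IsCurve g f' := by
  haveI := hf.proper
  haveI := hf.smooth
  haveI := hf.conn
  have key : ∀ s' : S', IsPullback (f'.fiberι s' ≫ a) (f'.fiberToSpecResidueField s') f
      (S'.fromSpecResidueField s' ≫ b) := fun s' =>
    IsPullback.paste_horiz (IsPullback.of_hasPullback f' (S'.fromSpecResidueField s')) hsq
  refine ⟨MorphismProperty.of_isPullback hsq hf.proper, MorphismProperty.of_isPullback hsq hf.smooth,
    MorphismProperty.of_isPullback hsq hf.conn, fun s' => ?_, fun s' => ?_⟩
  · exact ((fieldFibre _ (key s') (IsLocalRing.closedPoint (S'.residueField s')) (b s')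
      (congrArg b (Scheme.fromSpecResidueField_apply s' _))).1).trans (hf.dim _)
  · exact ((fieldFibre _ (key s') (IsLocalRing.closedPoint (S'.residueField s')) (b s')
      (congrArg b (Scheme.fromSpecResidueField_apply s' _))).2).trans (hf.gen _)

/-- Curve families descend along flat surjections locally of finite presentation. -/
theorem IsCurve.of_cover {g : ℕ} {X' S' : Scheme.{u}} {f' : X' ⟶ S'} {a : X' ⟶ X} {b : S' ⟶ S}
    [Flat b] [Surjective b] [LocallyOfFinitePresentation b]
    (hsq : IsPullback a f' f b) (hf : IsCurve g f') : IsCurve g f := by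
  haveI := hf.proper
  haveI := hf.smooth
  haveI := hf.conn
  let Q : MorphismProperty Scheme.{u} := @Surjective ⊓ @Flat ⊓ @LocallyOfFinitePresentation
  have hb : Q b := ⟨⟨‹_›, ‹_›⟩, ‹_›⟩
  haveI : UniversallyClosed f := MorphismProperty.of_isPullback_of_descendsAlong (Q := Q) hsq.flip hb
    (show UniversallyClosed f' from inferInstance)
  haveI : LocallyOfFiniteType f := MorphismProperty.of_isPullback_of_descendsAlong (Q := Q) hsq.flip hb
    (show LocallyOfFiniteType f' from inferInstance)
  haveI : MorphismProperty.DescendsAlong (@IsSeparated : MorphismProperty Scheme.{u}) Q := by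
    rw [IsSeparated.isSeparated_eq_diagonal_isClosedImmersion]; infer_instance
  haveI : IsSeparated f := MorphismProperty.of_isPullback_of_descendsAlong (Q := Q) hsq.flip hb
    (show IsSeparated f' from inferInstance)
  haveI : IsProper f := { }
  haveI : Smooth f := MorphismProperty.of_isPullback_of_descendsAlong (Q := Q) hsq.flip hb
    (show Smooth f' from inferInstance)
  have hlift : ∀ s : S, ∃ s' : S', b s' = s := b.surjective
  have hconn : GeometricallyConnected f := by
    rw [GeometricallyConnected.eq_geometrically]
    intro K _ y Z fst snd hZ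
    obtain ⟨s', hs'⟩ := hlift (y (IsLocalRing.closedPoint K))
    obtain ⟨w, -, -⟩ := Scheme.Pullback.exists_preimage_pullback (f := y) (g := b) (IsLocalRing.closedPoint K) s' hs'.symm
    let L : Type u := ↑((pullback y b).residueField w)
    let r : Spec (CommRingCat.of L) ⟶ S' := (pullback y b).fromSpecResidueField w ≫ pullback.snd y b
    let q : Spec (CommRingCat.of L) ⟶ Spec (CommRingCat.of K) := (pullback y b).fromSpecResidueField w ≫ pullback.fst y b
    have hrq : r ≫ b = q ≫ y := by simp only [r, q, Category.assoc, pullback.condition]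
    have h1 : IsPullback (pullback.fst f' r ≫ a) (pullback.snd f' r) f (q ≫ y) :=
      hrq ▸ IsPullback.paste_horiz (IsPullback.of_hasPullback f' r) hsq
    haveI : ConnectedSpace ↥(pullback f' r) := GeometricallyConnected.geometrically_connectedSpace _ _ _
      (IsPullback.of_hasPullback f' r)
    let l : pullback f' r ⟶ Z := hZ.lift (pullback.fst f' r ≫ a) (pullback.snd f' r ≫ q) (by
      rw [h1.w]; simp only [q, Category.assoc])
    have h2 : IsPullback l (pullback.snd f' r) snd q := by
      refine IsPullback.of_right ?_ (hZ.lift_snd _ _ _) hZ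
      rw [hZ.lift_fst]
      exact h1
    haveI : Subsingleton ↥(Spec (CommRingCat.of K)) := inferInstanceAs (Subsingleton (PrimeSpectrum K))
    haveI : Nonempty ↥(Spec (CommRingCat.of L)) := inferInstanceAs (Nonempty (PrimeSpectrum L))
    haveI : Surjective q := ⟨fun x => ⟨Classical.arbitrary _, Subsingleton.elim _ _⟩⟩
    haveI : Surjective l := MorphismProperty.of_isPullback h2.flip ‹Surjective q›
    exact l.surjective.connectedSpace l.continuous
  refine ⟨‹_›, ‹_›, hconn, fun s => ?_, fun s => ?_⟩ <;> obtain ⟨s', rfl⟩ := hlift s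
  · exact ((fieldFibre _ (IsPullback.paste_horiz (IsPullback.of_hasPullback f' (S'.fromSpecResidueField s')) hsq)
      (IsLocalRing.closedPoint (S'.residueField s')) (b s')
      (congrArg b (Scheme.fromSpecResidueField_apply s' _))).1).symm.trans (hf.dim s')
  · exact ((fieldFibre _ (IsPullback.paste_horiz (IsPullback.of_hasPullback f' (S'.fromSpecResidueField s')) hsq)
      (IsLocalRing.closedPoint (S'.residueField s')) (b s')
      (congrArg b (Scheme.fromSpecResidueField_apply s' _))).2).symm.trans (hf.gen s')

end Groth.Agent.CurveFamDesc
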