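import Groth.Agent.Lib.RepOnLocal
import Groth.Agent.Lib.CurveFamDesc
import Groth.Agent.FppfRefine.Ph
import Groth.Agent.FppfRefine.Scheme
import Groth.Agent.AmpleX.EmbedOverApps
import Groth.Agent.CurveFF.Facts
import Groth.Agent.S5721
import Groth.Agent.S2324
import Groth.Agent.S18840

/-!
# Effective descent for families of smooth curves of genus different from one
-/

set_option autoImplicit false
set_option linter.style.haveILetI false
set_option linter.unusedSectionVars false
set_option backward.isDefEq.respectTransparency false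
set_option backward.isDefEq.respectTransparency.types false
set_option maxHeartbeats 1000000

universe u

open CategoryTheory CategoryTheory.Limits AlgebraicGeometry TopologicalSpace Desc

noncomputable section

namespace Groth.Agent.CurveDescent

open Groth.Agent Groth.Agent.DescLib Groth.Agent.CurveFamDesc

/-- A family of curves of genus different from one carries a relatively very ample invertible module. -/
theorem exists_relVeryAmple {g : ℕ} (hg : g ≠ 1) {X S : Scheme.{u}} {f : X ⟶ S} (hf : IsCurve g f) :
    ∃ L : X.Modules, PicF.IsInvertible L ∧ RelProj.IsRelVeryAmple f L := by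
  haveI := hf.proper
  haveI := hf.smooth
  haveI := hf.conn
  have hω := SmoothCurveFam.isInvertible_omega f hf.dim
  rcases Nat.lt_or_ge g 2 with h | h
  · obtain rfl : g = 0 := by omega
    obtain ⟨Dω, hD, ⟨e⟩⟩ := H23.PicInv.exists_inverse hω
    refine ⟨Dω, hD, SmoothCurveFam.isRelVeryAmple_of_deg f hf.dim hD fun s => ?_⟩
    letI : (f.fiber s).Over (Spec (CommRingCat.of (S.residueField s))) := ⟨f.fiberToSpecResidueField s⟩
    haveI : IsProper ((f.fiber s) ↘ Spec (CommRingCat.of (S.residueField s))) :=
      inferInstanceAs (IsProper (pullback.snd f (S.fromSpecResidueField s)))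
    haveI : Smooth ((f.fiber s) ↘ Spec (CommRingCat.of (S.residueField s))) :=
      inferInstanceAs (Smooth (pullback.snd f (S.fromSpecResidueField s)))
    haveI : GeometricallyConnected ((f.fiber s) ↘ Spec (CommRingCat.of (S.residueField s))) :=
      inferInstanceAs (GeometricallyConnected (pullback.snd f (S.fromSpecResidueField s)))
    have h0 := CurveBC.finrank_h0_of_geometricallyConnected (S.residueField s) (f.fiber s)
    haveI := CurveBC.isIntegral_of_h0 (S.residueField s) (f.fiber s) h0
    obtain ⟨eΩ⟩ := SmoothCurveFam.nonempty_omega_fibre f s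
    obtain ⟨p⟩ := H23.PicMul.pull (f.fiberι s) (Omega.sheaf f) Dω
    obtain ⟨u0⟩ := PicClLib.nonempty_pullback_structureModule (f.fiberι s)
    have hdM : Curv2.deg (S.residueField s) (f.fiber s)
        ((Scheme.Modules.pullback (f.fiberι s)).obj (Omega.sheaf f)) 1 = 2 * ((0 : ℕ) : ℤ) - 2 := by
      refine (CurveRR.deg_congr (S.residueField s) eΩ 1).trans
        (((CurveBC.canonical_invariants (S.residueField s) (f.fiber s) (hf.dim s) h0).2).trans ?_)
      exact congrArg (fun m : ℕ => 2 * (m : ℤ) - 2) (hf.gen s)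
    have h1 := CurveRR.deg_tensor (S.residueField s) (hf.dim s)
      (PicClLib.isInvertible_pullback (f.fiberι s) hω) (PicClLib.isInvertible_pullback (f.fiberι s) hD)
    have h2 := (CurveRR.deg_congr (S.residueField s)
      (p.symm ≪≫ (Scheme.Modules.pullback (f.fiberι s)).mapIso e ≪≫ u0) 1).symm.trans h1
    rw [CurveDeg.deg_structureModule, hdM] at h2
    have hg0 : Curv2.genus (S.residueField s) (f.fiber s) = 0 := hf.gen s
    rw [hg0]
    push_cast at h2 ⊢
    omega
  · exact ⟨_, InvX.isInvertible_tensorPow hω 3,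
      SmoothCurveFam.isRelVeryAmple f hf.dim g h hf.gen 3 le_rfl⟩

/-- Finite sets of points of a family of curves of genus different from one over an affine base lie in affines. -/
theorem exists_affine {g : ℕ} (hg : g ≠ 1) {X S : Scheme.{u}} [IsAffine S] {f : X ⟶ S} (hf : IsCurve g f)
    (E : Set X) (hE : E.Finite) : ∃ O : X.Opens, IsAffineOpen O ∧ E ⊆ O := by
  haveI := hf.proper
  obtain ⟨L, hL, hva⟩ := exists_relVeryAmple hg hf
  have hA := (S5721.result f L hL hva).2 ⟨⊤, isAffineOpen_top S⟩
  haveI : CompactSpace X := QuasiCompact.compactSpace_of_compactSpace f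
  haveI : X.IsSeparated := ⟨(terminal.comp_from f) ▸ inferInstance⟩
  let P : Scheme.{u} := (f ⁻¹ᵁ (⊤ : S.Opens) : X.Opens)
  let j : P ⟶ X := (f ⁻¹ᵁ (⊤ : S.Opens)).ι
  haveI : CompactSpace P := isCompact_iff_compactSpace.1 (by simpa using (isCompact_univ : IsCompact (Set.univ : Set X)))
  haveI : P.IsSeparated := ⟨(terminal.comp_from j) ▸ inferInstance⟩
  obtain ⟨n, s, h1, -, h3⟩ := S2324.result P _ hA (j ⁻¹' E) (hE.preimage j.isOpenEmbedding.injective.injOn) ⊤
    (fun _ _ => trivial)
  refine ⟨_, h3.image_of_isOpenImmersion j, fun x hx => ⟨⟨x, trivial⟩, h1 hx, rfl⟩⟩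

variable {S' S : Scheme.{u}} (p : S' ⟶ S) [Flat p] [Surjective p] [LocallyOfFinitePresentation p]

/-- The factor sieves of an fppf cover are covering. -/
theorem hcov {T : Scheme.{u}} (x : T ⟶ S) :
    factorSieve (fun _ : PUnit.{u + 1} => p) x ∈ Scheme.fpqcTopology T := by
  refine factorSieve_mem_of_cover _ ?_ x
  rw [Presieve.ofArrows_pUnit]
  exact Scheme.fppfPrecoverage_le_fpqcPrecoverage _ p.singleton_mem_fppfPrecoverage

variable {D : SchDD p} {g : ℕ} (hD : IsCurve g D.obj.hom)

include hD in
/-- Every representing object is a family of curves. -/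
theorem isCurve_of_rep {V : Scheme.{u}} {s : V ⟶ S} {U : Over V}
    {c₀ : Compat ((SchDDFam.ofSchDD.{u} p).obj D) (U.hom ≫ s)}
    (hu : ∀ ⦃T : Scheme.{u}⦄ (x : T ⟶ V) (c : Compat ((SchDDFam.ofSchDD.{u} p).obj D) (x ≫ s)),
      ∃! q : Lifts U x, c₀.res q.1 (x ≫ s) (by rw [← Category.assoc, q.2]) = c) : IsCurve g U.hom := by
  obtain ⟨c₁, h₁⟩ := exists_rep_restrict hu (pullback.fst s p) _ rfl
  obtain ⟨c₂, h₂⟩ := exists_rep_point (D := (SchDDFam.ofSchDD.{u} p).obj D) (pullback.fst s p ≫ s) (i := PUnit.unit)
    (pullback.snd s p) pullback.condition.symm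
  obtain ⟨e⟩ := nonempty_iso_of_reps h₁ h₂
  have hP : IsCurve g (pullback.snd D.obj.hom (pullback.snd s p)) :=
    hD.baseChange (IsPullback.of_hasPullback D.obj.hom (pullback.snd s p))
  have hQ : IsCurve g (pullback.snd U.hom (pullback.fst s p)) := hP.baseChange
    (b := 𝟙 (pullback s p)) (a := e.hom.left) (IsPullback.of_horiz_isIso ⟨(Over.w e.hom).trans (Category.comp_id _).symm⟩)
  exact hQ.of_cover (IsPullback.of_hasPullback U.hom (pullback.fst s p))

include hD in
/-- Representability descends along finite locally free surjections of affine schemes. -/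
theorem repOn_descend_affine (hg : g ≠ 1) (B W : CommRingCat.{u}) (φ : B ⟶ W) (j : Spec B ⟶ S)
    [Surjective (Spec.map φ)] [IsFinite (Spec.map φ)] [Flat (Spec.map φ)]
    [LocallyOfFinitePresentation (Spec.map φ)]
    (h : RepOn ((SchDDFam.ofSchDD.{u} p).obj D) (Spec.map φ ≫ j)) :
    RepOn ((SchDDFam.ofSchDD.{u} p).obj D) j := by
  obtain ⟨U, c₀, hu⟩ := h
  obtain ⟨W', d₀, -, hd⟩ := repOn_descend hu fun E _ hE _ =>
    exists_affine hg (isCurve_of_rep p hD hu) E hE
  exact ⟨W', d₀, hd⟩

include hD in
/-- The datum is representable over every affine scheme. -/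
theorem repOn_spec (hg : g ≠ 1) (B : CommRingCat.{u}) (j : Spec B ⟶ S) :
    RepOn ((SchDDFam.ofSchDD.{u} p).obj D) j := by
  let pB : pullback j p ⟶ Spec B := pullback.fst j p
  have key : ∀ x : Spec B, ∃ b : B, x ∈ PrimeSpectrum.basicOpen b ∧
      RepOn ((SchDDFam.ofSchDD.{u} p).obj D)
        (Spec.map (CommRingCat.ofHom (algebraMap B (Localization.Away b))) ≫ j) := by
    intro x
    obtain ⟨z, hz⟩ := pB.surjective x
    obtain ⟨_, ⟨Y, hY, rfl⟩, hzY, -⟩ :=
      (pullback j p).isBasis_affineOpens.exists_subset_of_mem_open (Set.mem_univ z) isOpen_univ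
    replace hY : IsAffineOpen Y := hY
    let φ : B ⟶ Γ(pullback j p, Y) := Spec.preimage (hY.fromSpec ≫ pB)
    have hφ : Spec.map φ = hY.fromSpec ≫ pB := Spec.map_preimage _
    haveI : Flat (Spec.map φ) := by rw [hφ]; infer_instance
    haveI : LocallyOfFinitePresentation (Spec.map φ) := by rw [hφ]; infer_instance
    letI : Algebra B Γ(pullback j p, Y) := φ.hom.toAlgebra
    haveI : Module.Flat B Γ(pullback j p, Y) := (HasRingHomProperty.Spec_iff (P := @Flat)).1 ‹_›
    haveI : Algebra.FinitePresentation B Γ(pullback j p, Y) :=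
      (HasRingHomProperty.Spec_iff (P := @LocallyOfFinitePresentation)).1 ‹_›
    obtain ⟨q, hq⟩ : z ∈ Set.range hY.fromSpec := by rw [hY.range_fromSpec]; exact hzY
    have hqx : PrimeSpectrum.comap (algebraMap B Γ(pullback j p, Y)) q = x :=
      (show Spec.map φ q = pB (hY.fromSpec q) by rw [hφ]; rfl).trans ((congrArg pB hq).trans hz)
    obtain ⟨b, hb, W, _, _, _, _, _, hW⟩ := FppfRefine.exists_tower (B := B) q
    refine ⟨b, hqx ▸ hb, ?_⟩
    haveI := FppfRefine.finitePresentation_of_free (Localization.Away b) W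
    obtain ⟨_, _, _, _⟩ := FppfRefine.specMap_props (Localization.Away b) W
    refine repOn_descend_affine p hD hg _ _ (CommRingCat.ofHom (algebraMap (Localization.Away b) W)) _ ?_
    choose a ha T iT1 iT2 j' hT1 hT2 hT3 hT4 using hW
    refine repOn_of_local (hcov p) _
      (fun w : Spec (CommRingCat.of W) => Spec.map (CommRingCat.ofHom (algebraMap W (Localization.Away (a w)))))
      (fun w => ⟨w, (PrimeSpectrum.localization_away_comap_range (Localization.Away (a w)) (a w)).ge (ha w)⟩)
      fun w => ?_
    letI := iT1 w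
    letI := iT2 w
    haveI := hT1 w
    haveI := hT2 w
    haveI := hT3 w
    obtain ⟨_, _, _, _⟩ := FppfRefine.specMap_props (Localization.Away (a w)) (T w)
    refine repOn_descend_affine p hD hg _ _ (CommRingCat.ofHom (algebraMap (Localization.Away (a w)) (T w))) _ ?_
    obtain ⟨c₀, hc₀⟩ := exists_rep_point (D := (SchDDFam.ofSchDD.{u} p).obj D)
      (Spec.map (CommRingCat.ofHom (algebraMap (Localization.Away (a w)) (T w))) ≫
        Spec.map (CommRingCat.ofHom (algebraMap W (Localization.Away (a w)))) ≫
        Spec.map (CommRingCat.ofHom (algebraMap (Localization.Away b) W)) ≫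
        Spec.map (CommRingCat.ofHom (algebraMap B (Localization.Away b))) ≫ j)
      (i := PUnit.unit) (Spec.map (CommRingCat.ofHom (j' w)) ≫ hY.fromSpec ≫ pullback.snd j p) (by
        have e : φ ≫ CommRingCat.ofHom (j' w) = CommRingCat.ofHom (algebraMap B (Localization.Away b)) ≫
            CommRingCat.ofHom (algebraMap (Localization.Away b) W) ≫
            CommRingCat.ofHom (algebraMap W (Localization.Away (a w))) ≫
            CommRingCat.ofHom (algebraMap (Localization.Away (a w)) (T w)) := CommRingCat.hom_ext (hT4 w)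
        show (Spec.map (CommRingCat.ofHom (j' w)) ≫ hY.fromSpec ≫ pullback.snd j p) ≫ p = _
        rw [Category.assoc, Category.assoc, ← pullback.condition, ← Category.assoc hY.fromSpec, ← hφ,
          ← Category.assoc, ← Spec.map_comp, e]
        simp only [Spec.map_comp, Category.assoc])
    exact ⟨_, c₀, hc₀⟩
  choose b hb hr using key
  exact repOn_of_local (hcov p) j
    (fun x : Spec B => Spec.map (CommRingCat.ofHom (algebraMap B (Localization.Away (b x)))))
    (fun x => ⟨x, (PrimeSpectrum.localization_away_comap_range (Localization.Away (b x)) (b x)).ge (hb x)⟩) hr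

include hD in
/-- The datum of a family of curves of genus different from one is effective. -/
theorem rep_curve (hg : g ≠ 1) : Rep ((SchDDFam.ofSchDD.{u} p).obj D) := by
  choose W hW hxW using fun x : S => (show ∃ W : S.Opens, IsAffineOpen W ∧ x ∈ W from by
    obtain ⟨_, ⟨W, hW, rfl⟩, hx, -⟩ := S.isBasis_affineOpens.exists_subset_of_mem_open (Set.mem_univ x) isOpen_univ
    exact ⟨W, hW, hx⟩)
  exact rep_of_repOn (repOn_of_local (hcov p) (𝟙 S) (fun x => (hW x).fromSpec)
    (fun x => ⟨x, by rw [(hW x).range_fromSpec]; exact hxW x⟩) fun x => repOn_spec p hD hg _ _)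

end Groth.Agent.CurveDescent
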