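import Groth.Agent.PBC.Higher
import Groth.Agent.PBC.Bc0Comp
import Groth.Agent.KRRReg.PushOne
import Groth.Agent.Lib.GammaDescent
import Groth.Agent.S16759
import Groth.Agent.GeomField.GlobalFunctions
import Groth.Agent.AssDimLoci.Ring

/-!
# Direct images of the structure sheaf of a family of curves with constant functions on the fibres
-/

set_option autoImplicit false
set_option linter.style.haveILetI false
set_option backward.isDefEq.respectTransparency false
set_option backward.isDefEq.respectTransparency.types false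
set_option maxHeartbeats 1000000

universe u

open CategoryTheory CategoryTheory.Limits AlgebraicGeometry TopologicalSpace

noncomputable section

namespace Groth.Agent.CurveFamR1

theorem structure_pullSec_le {X Y : Scheme.{u}} (π : X ⟶ Y) :
    ∃ e : (Scheme.Modules.pullback π).obj (Coh.structureModule Y) ≅ Coh.structureModule X,
      ∀ (V : Y.Opens) (W : X.Opens) (hle : W ≤ π ⁻¹ᵁ V) (x : Γ(Y, V)),
        e.hom.app W (QCoh.pullSec π (Coh.structureModule Y) hle x) = π.appLE V W hle x := by
  obtain ⟨e, he⟩ := KRRReg.structure_pullSec_open π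
  refine ⟨e, fun V W hle x => ?_⟩
  refine (QCoh.map_app_comm e.hom (homOfLE hle) _).trans ?_
  have h := he V x
  rw [QCoh.pullSec] at h
  refine Eq.trans (congrArg ((Coh.structureModule X).presheaf.map (homOfLE hle).op)
    ((congrArg (e.hom.app (π ⁻¹ᵁ V)) (QCoh.map_id' (M := (Scheme.Modules.pullback π).obj (Coh.structureModule Y)) _ _).symm).trans h)) ?_
  rfl

variable {X S X' S' : Scheme.{u}} (f : X ⟶ S) (g : S' ⟶ S) (f' : X' ⟶ S') (g' : X' ⟶ X)

/-- The degree zero base change map of the structure sheaf is epi when `O ≅ f'_*O`. -/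
theorem epi_bc0_structure (w : g' ≫ f = f' ≫ g) [IsIso (ClSub.unitToPush f')] :
    Epi (CohBC.bc0 f g f' g' w (Coh.structureModule X)) := by
  obtain ⟨eX, heX⟩ := structure_pullSec_le g'
  obtain ⟨eS, heS⟩ := structure_pullSec_le g
  let u := ClSub.unitToPush f
  let bc := CohBC.bc0 f g f' g' w (Coh.structureModule X)
  have key : (Scheme.Modules.pullback g).map u ≫ bc ≫ (Scheme.Modules.pushforward f').map eX.hom =
      eS.hom ≫ ClSub.unitToPush f' := by
    refine PBC.pullback_hom_ext g fun O x => ?_
    have h1 := ExistEasy.pullSec_natural g u (le_refl (g ⁻¹ᵁ O)) x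
    have h2 := PBC.bc0_app_pullSec f g f' g' w (Coh.structureModule X) (le_refl (g ⁻¹ᵁ O)) (u.app O x)
    have h3 := heX (f ⁻¹ᵁ O) (f' ⁻¹ᵁ (g ⁻¹ᵁ O)) (PBC.le_square f g f' g' w le_rfl) (f.app O x)
    have h4 := heS O (g ⁻¹ᵁ O) le_rfl x
    show eX.hom.app (f' ⁻¹ᵁ (g ⁻¹ᵁ O)) (bc.app (g ⁻¹ᵁ O) (((Scheme.Modules.pullback g).map u).app (g ⁻¹ᵁ O)
      (QCoh.pullSec g (Coh.structureModule S) le_rfl x))) =
      f'.app (g ⁻¹ᵁ O) (eS.hom.app (g ⁻¹ᵁ O) (QCoh.pullSec g (Coh.structureModule S) le_rfl x))
    refine (congrArg (eX.hom.app _) ((congrArg (bc.app _) h1).trans h2)).trans (h3.trans ?_)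
    refine Eq.trans ?_ (congrArg (f'.app (g ⁻¹ᵁ O)) h4).symm
    rw [Scheme.Hom.app_eq_appLE, Scheme.Hom.app_eq_appLE]
    rw [← CommRingCat.comp_apply, ← CommRingCat.comp_apply, Scheme.Hom.appLE_comp_appLE, Scheme.Hom.appLE_comp_appLE]
    simp only [w]
  haveI : Epi ((Scheme.Modules.pullback g).map u ≫ bc ≫ (Scheme.Modules.pushforward f').map eX.hom) := by
    rw [key]; infer_instance
  haveI : Epi (bc ≫ (Scheme.Modules.pushforward f').map eX.hom) := epi_of_epi ((Scheme.Modules.pullback g).map u) _
  have : bc = (bc ≫ (Scheme.Modules.pushforward f').map eX.hom) ≫ (Scheme.Modules.pushforward f').map eX.inv := by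
    rw [Category.assoc, ← Functor.map_comp, eX.hom_inv_id, CategoryTheory.Functor.map_id, Category.comp_id]
  show Epi bc
  rw [this]
  infer_instance

section Family

variable {X S : Scheme.{u}} (f : X ⟶ S)

theorem surjective_of_constFibres (h : H23.RigidApply.ConstFibres f) : Surjective f := by
  refine ⟨fun s => ?_⟩
  by_contra hne
  have he : IsEmpty ↥(f.fiber s) := ⟨fun x => by
    have h1 : f.fiberι s x ∈ Set.range (f.fiberι s) := ⟨x, rfl⟩
    rw [Scheme.Hom.range_fiberι] at h1
    exact hne ⟨_, h1⟩⟩
  haveI : Subsingleton Γ(pullback f (S.fromSpecResidueField s), ⊤) := by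
    haveI : IsEmpty ↥(pullback f (S.fromSpecResidueField s)) := he
    infer_instance
  haveI := (h s).1.subsingleton
  have e := congrArg (Scheme.ΓSpecIso (S.residueField s)).hom
    (Subsingleton.elim ((Scheme.ΓSpecIso (S.residueField s)).inv (0 : S.residueField s))
      ((Scheme.ΓSpecIso (S.residueField s)).inv (1 : S.residueField s)))
  simp at e

theorem isIso_unitToPush_fibre [IsProper f] (h : H23.RigidApply.ConstFibres f) (s : S) :
    IsIso (ClSub.unitToPush (f.fiberToSpecResidueField s)) := by
  haveI : IsProper (f.fiberToSpecResidueField s) :=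
    inferInstanceAs (IsProper (pullback.snd f (S.fromSpecResidueField s)))
  have hc : H23.RigidApply.ConstFibres (f.fiberToSpecResidueField s) := h.baseChange (S.fromSpecResidueField s)
  haveI := surjective_of_constFibres (f.fiberToSpecResidueField s) hc
  exact GammaDescent.isIso_unitToPush (f.fiberToSpecResidueField s) hc

/-- `R¹f_*O` is locally free for proper flat families of curves with constant functions on the fibres. -/
theorem isFinLocFree_R1 [IsProper f] [Flat f] [LocallyOfFinitePresentation f] [HasInjectiveResolutions X.Modules]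
    (h : H23.RigidApply.ConstFibres f) (hdim : ∀ s : S, topologicalKrullDim ↥(f.fiber s) ≤ (1 : ℕ)) :
    FlatMod.IsFinLocFree ((Coh.Rpush f 1).obj (Coh.structureModule X)) := by
  refine PBC.isFinLocFree_Rpush_one f AssDimLoci.isFP_structureModule (AssDimLoci.isFlatOver_structureModule f)
    (fun y => PBC.subsingleton_fiberH_of_dim f y (hdim y) (by norm_num)) fun y => ?_
  haveI := isIso_unitToPush_fibre f h y
  exact epi_bc0_structure f (S.fromSpecResidueField y) (f.fiberToSpecResidueField y) (f.fiberι y) (f.fiber_fac y)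

/-- Constant functions from `h⁰ = 1`. -/
theorem constFibres_of_h0
    (h0 : ∀ s : S, Models.hRank ↥(S.residueField s) (f.fiber s) (f.fiberToSpecResidueField s)
      (Coh.structureModule (f.fiber s)) 0 = 1) : H23.RigidApply.ConstFibres f := fun s => by
  letI : (f.fiber s).Over (Spec (CommRingCat.of (S.residueField s))) := ⟨f.fiberToSpecResidueField s⟩
  letI := GeomField.globalAlgebra (S.residueField s) (f.fiber s)
  have h1 : Module.finrank (S.residueField s) Γ(f.fiber s, ⊤) = 1 := by
    rw [← GeomField.finrank_HH_zero]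
    exact h0 s
  haveI : Nontrivial Γ(f.fiber s, ⊤) := Module.nontrivial_of_finrank_pos (R := S.residueField s) (by omega)
  have hb : Function.Bijective (algebraMap (S.residueField s) Γ(f.fiber s, ⊤)) := by
    refine ⟨RingHom.injective _, fun z => ?_⟩
    obtain ⟨c, hc⟩ := exists_smul_eq_of_finrank_eq_one h1 (one_ne_zero (α := Γ(f.fiber s, ⊤))) z
    exact ⟨c, by rw [← hc, Algebra.smul_def, mul_one]⟩
  have h2 := hb.comp (ConcreteCategory.bijective_of_isIso (Scheme.ΓSpecIso (S.residueField s)).hom)
  show Function.Bijective (f.fiberToSpecResidueField s).appTop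
  convert h2 using 1
  funext z
  show _ = (f.fiberToSpecResidueField s).appTop ((Scheme.ΓSpecIso (S.residueField s)).inv _)
  exact (congrArg _ ((Scheme.ΓSpecIso (S.residueField s)).hom_inv_id_apply z)).symm

end Family

end Groth.Agent.CurveFamR1
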