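import Groth.Agent.Lib.CurveHiggs
import Groth.Agent.Lib.CurveSSVanish

/-! Maximal-slope subsheaves and twisted endomorphisms. -/

set_option linter.style.haveILetI false
set_option linter.unusedSectionVars false
set_option backward.isDefEq.respectTransparency false
set_option backward.isDefEq.respectTransparency.types false

universe u

open CategoryTheory CategoryTheory.Limits AlgebraicGeometry TopologicalSpace Opposite

namespace Groth.Agent.CurveHiggs

open Groth.Agent.CurveBundle Groth.Agent.CurveSlope Groth.Agent.CurveStable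

variable {X : Scheme.{u}} (k : Type u) [Field k] [X.Over (Spec (CommRingCat.of k))] [IsIntegral X]
  [IsProper (X ↘ Spec (CommRingCat.of k))] [Smooth (X ↘ Spec (CommRingCat.of k))]

/-- A maximal-slope subsheaf of largest rank maps trivially to non-positive twists of the quotient. -/
theorem hom_eq_zero_of_max (hdim : topologicalKrullDim X = 1) {E A L : X.Modules}
    (hE : FlatMod.IsFinLocFree E) (hA : FlatMod.IsFinLocFree A) (hA0 : 0 < rk A)
    (i : A ⟶ E) [Mono i] (hQ : FlatMod.IsFinLocFree (cokernel i))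
    (hL : PicF.IsInvertible L) (hL0 : Curv2.deg k X L 1 ≤ 0)
    (hmax : ∀ (G : X.Modules) (j : G ⟶ E), Mono j → FlatMod.IsFinLocFree G → 0 < rk G →
      dg k G * (rk A : ℤ) ≤ dg k A * (rk G : ℤ) ∧
      (dg k G * (rk A : ℤ) = dg k A * (rk G : ℤ) → rk G ≤ rk A))
    (f : A ⟶ (DCoh.tensorBi.obj (cokernel i)).obj L) : f = 0 := by
  haveI := CurveCohLib.isNoetherian_of_proper (k := k) (X := X)
  by_contra hf
  obtain ⟨J, π, j, hj, -, -, hK, hJ, hrJ, hdJ, hpos, -⟩ :=
    exists_decomp k hdim.le hA (isFinLocFree_twist hL hQ) f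
  haveI := hj
  obtain ⟨D, hD, hdD, ⟨e₀⟩⟩ := CurveDuality.exists_inverse_deg k hdim hL
  have e : (DCoh.tensorBi.obj D).obj L ≅ Coh.structureModule X := CurveTensor.commIso D L ≪≫ e₀
  have hDf := isFinLocFree_of_rank (InvEnd.isFinLocFreeOfRank_one hD)
  let j' : J ⟶ (DCoh.tensorBi.obj L).obj (cokernel i) := j ≫ (CurveTensor.commIso (cokernel i) L).hom
  haveI : Mono ((DCoh.tensorBi.obj D).map j') :=
    (CurveTensor.shortExact_tensor hDf _ _ _ (shortExact_cokernel_of_mono j')).mono_f
  obtain ⟨hrJ', hdJ'⟩ := CurveDuality.dg_tensor_line k hdim hD hJ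
  obtain ⟨P, l, hl, hP, hrP, hdP⟩ := exists_preimage k hdim.le i (cokernel.π i) _
    (shortExact_cokernel_of_mono i) (coh_of_free k hA) hE (coh_of_free k hQ)
    ((DCoh.tensorBi.obj D).map j' ≫ (CurveRR.cancelIso e).hom.app (cokernel i))
    (coh_of_free k (KFlatLib.isFinLocFree_tensor hDf hJ))
  have hj0 : (0 : ℤ) < rk J := by exact_mod_cast hpos hf
  have hP0 := hmax P l hl hP (by omega)
  have hK0 : dg k (kernel f) * (rk A : ℤ) ≤ dg k A * (rk (kernel f) : ℤ) := by
    rcases Nat.eq_zero_or_pos (rk (kernel f)) with h | h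
    · rw [dg_eq_zero_of_isZero k (isZero_of_rk_zero hK h), h]
      simp
    · exact (hmax _ (kernel.ι f ≫ i) inferInstance hK h).1
  rw [hdP, hdJ', hdD, hrP, hrJ'] at hP0
  push_cast at hP0
  have hrA : (rk A : ℤ) = (rk (kernel f) : ℤ) + (rk J : ℤ) := by exact_mod_cast hrJ
  have hA' : (0 : ℤ) < rk A := by exact_mod_cast hA0
  have hneg : 0 ≤ (rk A : ℤ) * (rk J : ℤ) * (- Curv2.deg k X L 1) :=
    mul_nonneg (mul_nonneg hA'.le hj0.le) (by omega)
  have heq : (dg k A + (dg k J + (rk J : ℤ) * -Curv2.deg k X L 1)) * (rk A : ℤ) =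
      dg k A * ((rk A : ℤ) + (rk J : ℤ)) :=
    le_antisymm hP0.1 (by linear_combination hK0 + hneg + (rk A : ℤ) * hdJ - dg k A * hrA)
  have := hP0.2 heq
  omega

end Groth.Agent.CurveHiggs
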