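import Groth.Agent.PBC.Deg0Glob
import Groth.Agent.S3572
import Groth.Agent.S3573
import Groth.Agent.S18891
import Groth.Agent.GrpSchLib.UnramifiedFibre
import Groth.Agent.VeryAmpleX.CriterionPn
import Groth.Agent.H23.Seesaw
import Groth.Agent.FComplLib.AffMod
import Groth.Agent.VeryAmple.Main

/-!
# Fibrewise very ample modules with vanishing `H¹` on the fibres are relatively very ample
-/

set_option autoImplicit false
set_option linter.style.haveILetI false
set_option backward.isDefEq.respectTransparency false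
set_option backward.isDefEq.respectTransparency.types false
set_option maxHeartbeats 1000000

universe u

open CategoryTheory CategoryTheory.Limits AlgebraicGeometry TopologicalSpace
open Groth.Agent.H23

noncomputable section

namespace Groth.Agent.FibVeryAmple

open Groth.Agent

variable {K : Type u} [Field K] {Z : Scheme.{u}} (pZ : Z ⟶ Spec (CommRingCat.of K))

/-- The sections span the global sections of a module which is the pullback of `O(1)` by a map to
projective space that is a monomorphism over the field. -/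
def SpanEmb (M : Z.Modules) {n : ℕ} (t : Fin (n + 1) → Γ(M, ⊤)) : Prop :=
  (∃ (m : ℕ) (i : Z ⟶ CohB1.ProjSpace m (ULift.{u} ℤ))
    (_ : (Scheme.Modules.pullback i).obj (Twist.twistProjSpace m (ULift.{u} ℤ) 1) ≅ M),
    ∀ (T : Scheme.{u}) (a b : T ⟶ Z), a ≫ i = b ≫ i → a ≫ pZ = b ≫ pZ → a = b) ∧
  ∀ z : Γ(M, ⊤), ∃ c : Fin (n + 1) → K, z = ∑ j, (show Γ(Z, ⊤) from Coh.toGlobal pZ (c j)) • t j

variable {pZ}

theorem SpanEmb.cover {M : Z.Modules} (hM : PicF.IsInvertible M) {n : ℕ} {t : Fin (n + 1) → Γ(M, ⊤)}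
    (h : SpanEmb pZ M t) (x : Z) : ∃ j, x ∈ TrivBasic.locus (t j) := by
  obtain ⟨⟨m, i, τ, -⟩, hspan⟩ := h
  obtain ⟨l, hl⟩ := Opens.mem_iSup.1 ((AmpleEmbed.iSup_basicOpen_X m (ULift.{u} ℤ)).ge (show i x ∈ ⊤ from trivial))
  let w : Γ(M, ⊤) := τ.hom.app ⊤ (ProjUP.pullSec i _ (ProjUP.coord m (ULift.{u} ℤ) l))
  have hw : x ∈ TrivBasic.locus w := (AmpleEmbed.preimage_chart i τ l rfl).le hl
  obtain ⟨U, hxU, e, he⟩ := InvX.exists_frame hM x
  by_contra hne
  push_neg at hne
  have hg : ∀ z : Γ(M, ⊤), ∃ g : Γ(Z, U), AModX.res M (le_top : U ≤ ⊤) z = g • e := fun z => by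
    obtain ⟨g, hg⟩ := he.exists_coord le_rfl (AModX.res M (le_top : U ≤ ⊤) z)
    rw [AModX.res_self] at hg
    exact ⟨g, hg⟩
  choose g hg using hg
  have hmem : ∀ z, x ∈ TrivBasic.locus z ↔ x ∈ Z.basicOpen (g z) := fun z => by
    rw [← TrivBasic.locus_eq_basicOpen he (hg z)]
    exact ⟨fun h => ⟨h, hxU⟩, fun h => h.1⟩
  obtain ⟨c, hc⟩ := hspan w
  have e1 : g w = ∑ j, AModX.resR (le_top : U ≤ ⊤) (Coh.toGlobal pZ (c j)) * g (t j) := by
    refine he.coord_unique le_rfl ?_
    rw [AModX.res_self, ← hg, Finset.sum_smul, hc, map_sum]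
    refine Finset.sum_congr rfl fun j _ => ?_
    rw [AModX.res_smul, hg, mul_smul]
  have h2 : ∀ j, ¬ IsUnit (Z.presheaf.germ U x hxU (g (t j))) := fun j hu =>
    hne j ((hmem _).2 ((Scheme.mem_basicOpen Z _ _ hxU).2 hu))
  refine ((Scheme.mem_basicOpen Z _ _ hxU).1 ((hmem w).1 hw) |> fun hu => ?_)
  rw [e1, map_sum] at hu
  exact (IsLocalRing.mem_maximalIdeal _).1 (Ideal.sum_mem _ fun j _ => by
    rw [map_mul]
    exact Ideal.mul_mem_left _ _ ((IsLocalRing.mem_maximalIdeal _).2 (h2 j))) hu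

variable {X S₀ : Scheme.{u}} {q : X ⟶ S₀} {L : X.Modules}

/-- A map to projective space given by sections is injective on points of a fibre whose module is spanned
and very ample. -/
theorem hom_eq {n : ℕ} (s : Fin (n + 1) → Γ(L, ⊤)) (r : X ⟶ CohB1.ProjSpace n (ULift.{u} ℤ))
    (τ : (Scheme.Modules.pullback r).obj (Twist.twistProjSpace n (ULift.{u} ℤ) 1) ≅ L)
    (hτ : ∀ j, τ.hom.app ⊤ (ProjUP.pullSec r _ (ProjUP.coord n (ULift.{u} ℤ) j)) = s j) (g : Z ⟶ X)
    (h : SpanEmb pZ ((Scheme.Modules.pullback g).obj L) fun j => FComplLib.pullTop g L (s j))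
    {T : Scheme.{u}} (a b : T ⟶ Z) (h₁ : a ≫ pZ = b ≫ pZ) (h₂ : a ≫ g ≫ r = b ≫ g ≫ r) : a = b := by
  obtain ⟨⟨m, i, σ, hmono⟩, hspan⟩ := h
  refine hmono T a b ?_ h₁
  let M := (Scheme.Modules.pullback g).obj L
  let O₁ := Twist.twistProjSpace n (ULift.{u} ℤ) 1
  let A : ∀ a : T ⟶ Z, (Scheme.Modules.pullback a).obj M ≅ (Scheme.Modules.pullback (a ≫ g ≫ r)).obj O₁ :=
    fun a => (Scheme.Modules.pullback a).mapIso ((Scheme.Modules.pullback g).mapIso τ.symm ≪≫
      (Scheme.Modules.pullbackComp g r).app O₁) ≪≫ (Scheme.Modules.pullbackComp a (g ≫ r)).app O₁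
  have hA : ∀ (a : T ⟶ Z) j, (A a).hom.app ⊤ (FComplLib.pullTop a M (FComplLib.pullTop g L (s j))) =
      FComplLib.pullTop (a ≫ g ≫ r) O₁ (ProjUP.coord n (ULift.{u} ℤ) j) := by
    intro a j
    have e0 : τ.inv.app ⊤ (s j) = FComplLib.pullTop r O₁ (ProjUP.coord n (ULift.{u} ℤ) j) := by
      rw [← hτ j]
      exact congrArg (fun φ => Scheme.Modules.Hom.app φ ⊤ _) τ.hom_inv_id
    let ψ := (Scheme.Modules.pullback g).map τ.inv ≫ (Scheme.Modules.pullbackComp g r).hom.app O₁
    have e1 : ψ.app ⊤ (FComplLib.pullTop g L (s j)) =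
        FComplLib.pullTop (g ≫ r) O₁ (ProjUP.coord n (ULift.{u} ℤ) j) := by
      show ((Scheme.Modules.pullbackComp g r).hom.app O₁).app ⊤
        (((Scheme.Modules.pullback g).map τ.inv).app ⊤ (FComplLib.pullTop g L (s j))) = _
      rw [FComplLib.pullTop_naturality, e0, FComplLib.pullTop_comp]
    show ((Scheme.Modules.pullbackComp a (g ≫ r)).hom.app O₁).app ⊤
      (((Scheme.Modules.pullback a).map ψ).app ⊤ (FComplLib.pullTop a M (FComplLib.pullTop g L (s j)))) = _
    rw [FComplLib.pullTop_naturality, e1, FComplLib.pullTop_comp]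
  let θ : (Scheme.Modules.pullback a).obj M ≅ (Scheme.Modules.pullback b).obj M :=
    A a ≪≫ (Scheme.Modules.pullbackCongr h₂).app O₁ ≪≫ (A b).symm
  have hθ : ∀ j, θ.hom.app ⊤ (FComplLib.pullTop a M (FComplLib.pullTop g L (s j))) =
      FComplLib.pullTop b M (FComplLib.pullTop g L (s j)) := fun j => by
    show (A b).inv.app ⊤ (((Scheme.Modules.pullbackCongr h₂).hom.app O₁).app ⊤ ((A a).hom.app ⊤ _)) = _
    rw [hA, FComplLib.pullTop_congr, ← hA b j]
    exact congrArg (fun φ => Scheme.Modules.Hom.app φ ⊤ _) (A b).hom_inv_id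
  have hall : ∀ z : Γ(M, ⊤), θ.hom.app ⊤ (FComplLib.pullTop a M z) = FComplLib.pullTop b M z := by
    intro z
    obtain ⟨c, rfl⟩ := hspan z
    simp only [FComplLib.pullTop, map_sum]
    refine Finset.sum_congr rfl fun j _ => ?_
    refine Eq.trans (congrArg (θ.hom.app ⊤) (FComplLib.pullTop_smul a M _ _)) ?_
    refine Eq.trans ((Scheme.Modules.Hom.app_smul _ _ _).trans ?_) (FComplLib.pullTop_smul b M _ _).symm
    refine congrArg₂ (· • ·) ?_ (hθ j)
    show a.appTop (pZ.appTop _) = b.appTop (pZ.appTop _)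
    exact congrArg (fun φ : T ⟶ Spec (CommRingCat.of K) => φ.appTop ((Scheme.ΓSpecIso (CommRingCat.of K)).inv (c j))) h₁
  let O' := Twist.twistProjSpace m (ULift.{u} ℤ) 1
  let B : ∀ a : T ⟶ Z, (Scheme.Modules.pullback (a ≫ i)).obj O' ≅ (Scheme.Modules.pullback a).obj M :=
    fun a => ((Scheme.Modules.pullbackComp a i).app O').symm ≪≫ (Scheme.Modules.pullback a).mapIso σ
  have hB : ∀ (a : T ⟶ Z) (x : Γ(O', ⊤)), (B a).hom.app ⊤ (FComplLib.pullTop (a ≫ i) O' x) =
      FComplLib.pullTop a M (σ.hom.app ⊤ (FComplLib.pullTop i O' x)) := fun a x => by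
    show ((Scheme.Modules.pullback a).map σ.hom).app ⊤
      (((Scheme.Modules.pullbackComp a i).inv.app O').app ⊤ _) = _
    rw [← FComplLib.pullTop_comp a i O' x, ← FComplLib.pullTop_naturality]
    exact congrArg (((Scheme.Modules.pullback a).map σ.hom).app ⊤) (congrArg (fun φ => Scheme.Modules.Hom.app φ ⊤ _)
      ((Scheme.Modules.pullbackComp a i).hom_inv_id_app O'))
  refine S3573.result m (a ≫ i) (b ≫ i) (specULiftZIsTerminal.hom_ext _ _) (B a ≪≫ θ ≪≫ (B b).symm) fun l => ?_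
  show (B b).inv.app ⊤ (θ.hom.app ⊤ ((B a).hom.app ⊤ (FComplLib.pullTop (a ≫ i) O' _))) =
    FComplLib.pullTop (b ≫ i) O' _
  rw [hB, hall, ← hB]
  exact congrArg (fun φ => Scheme.Modules.Hom.app φ ⊤ _) (B b).hom_inv_id

/-- Sections giving embeddings of all fibres give very ampleness over the base. -/
theorem isRelVeryAmplePn_of_fibres [IsProper q] (hL : PicF.IsInvertible L) {n : ℕ} (s : Fin (n + 1) → Γ(L, ⊤))
    (h : ∀ p : S₀, ∃ (K : Type u) (_ : Field K) (ξ : Spec (CommRingCat.of K) ⟶ S₀) (Z : Scheme.{u}) (g : Z ⟶ X)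
      (pZ : Z ⟶ Spec (CommRingCat.of K)), IsPullback g pZ q ξ ∧
        (∀ {T : Scheme.{u}} (c : T ⟶ Spec (S₀.residueField p)), ∃ d : T ⟶ Spec (CommRingCat.of K),
          d ≫ ξ = c ≫ S₀.fromSpecResidueField p) ∧ Mono ξ ∧ p ∈ Set.range ξ ∧
        SpanEmb pZ ((Scheme.Modules.pullback g).obj L) fun j => FComplLib.pullTop g L (s j)) :
    RelAmple.IsRelVeryAmplePn q L := by
  have hcov : ∀ x : X, ∃ j, x ∈ TrivBasic.locus (s j) := fun x => by
    obtain ⟨K, _, ξ, Z, g, pZ, hpb, -, -, ⟨w, hw⟩, hsp⟩ := h (q x)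
    obtain ⟨z, hz, -⟩ := Scheme.exists_preimage_of_isPullback hpb x w hw.symm
    obtain ⟨j, hj⟩ := hsp.cover (PicClLib.isInvertible_pullback g hL) z
    refine ⟨j, hz ▸ ?_⟩
    exact (TrivBasic.locus_pullElt hL g (s j)).le hj
  obtain ⟨r, -, τ, hτ⟩ := S3572.result n (specULiftZIsTerminal.from X) L hL s
    (VeryAmple.generatedBy_of_locus s hcov)
  let π : CohB1.ProjSpaceOver n S₀ ⟶ CohB1.ProjSpace n (ULift.{u} ℤ) :=
    pullback.fst (CohB1.ProjSpace.toSpec n (ULift.{u} ℤ)) (specULiftZIsTerminal.from S₀)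
  let i' : X ⟶ CohB1.ProjSpaceOver n S₀ := pullback.lift r q (specULiftZIsTerminal.hom_ext _ _)
  have hfst : i' ≫ π = r := pullback.lift_fst _ _ _
  have hsnd : i' ≫ CohB1.ProjSpaceOver.toBase n S₀ = q := pullback.lift_snd _ _ _
  haveI : IsProper (CohB1.ProjSpace.toSpec n (ULift.{u} ℤ)) := PnCoh.Chow.isProper_toSpec n _
  haveI : IsProper (CohB1.ProjSpaceOver.toBase n S₀) :=
    inferInstanceAs (IsProper (pullback.snd (CohB1.ProjSpace.toSpec n (ULift.{u} ℤ)) (specULiftZIsTerminal.from S₀)))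
  haveI : IsProper i' := by
    haveI : IsProper (i' ≫ CohB1.ProjSpaceOver.toBase n S₀) := hsnd.symm ▸ ‹IsProper q›
    exact IsProper.of_comp i' (CohB1.ProjSpaceOver.toBase n S₀)
  have key : ∀ (p : S₀) (T : Scheme.{u}) (c : T ⟶ Spec (S₀.residueField p)) (a b : T ⟶ X),
      a ≫ q = c ≫ S₀.fromSpecResidueField p → a ≫ i' = b ≫ i' → a = b := by
    intro p T c a b ha hab
    obtain ⟨K, _, ξ, Z, g, pZ, hpb, hd, -, -, hsp⟩ := h p
    obtain ⟨d, hd⟩ := hd c
    have hb : b ≫ q = a ≫ q := by rw [← hsnd, reassoc_of% hab]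
    have e : hpb.lift a d (ha.trans hd.symm) = hpb.lift b d ((hb.trans ha).trans hd.symm) := by
      refine hom_eq s r τ hτ g hsp _ _ (by simp) ?_
      rw [hpb.lift_fst_assoc, hpb.lift_fst_assoc, ← hfst, reassoc_of% hab]
    simpa using congrArg (· ≫ g) e
  haveI : FormallyUnramified i' := by
    refine GrpSchLib.formallyUnramified_of_fibres i' fun w => ?_
    haveI : Mono (i'.fiberToSpecResidueField w) := ⟨fun {T} a b hab => by
      have hw := i'.fiber_fac w
      refine pullback.hom_ext ?_ hab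
      let p := CohB1.ProjSpaceOver.toBase n S₀ w
      refine key p T ((a ≫ i'.fiberToSpecResidueField w) ≫
        Spec.map ((CohB1.ProjSpaceOver.toBase n S₀).residueFieldMap w)) _ _ ?_ ?_
      · simp only [Category.assoc]
        rw [← hsnd]
        show a ≫ i'.fiberι w ≫ i' ≫ _ = _
        rw [reassoc_of% hw]
        exact congrArg (fun φ => a ≫ i'.fiberToSpecResidueField w ≫ φ)
          (Scheme.Hom.SpecMap_residueFieldMap_fromSpecResidueField (CohB1.ProjSpaceOver.toBase n S₀) w).symm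
      · show (a ≫ i'.fiberι w) ≫ i' = (b ≫ i'.fiberι w) ≫ i'
        rw [Category.assoc, Category.assoc, hw, reassoc_of% hab]⟩
    infer_instance
  haveI : IsClosedImmersion i' := S18891.result i' fun Ω _ _ a b hab => by
    let p := (a ≫ q) (IsLocalRing.closedPoint Ω)
    exact key p _ (Spec.map (Scheme.descResidueField (Scheme.stalkClosedPointTo (a ≫ q)))) a b
      (Scheme.descResidueField_stalkClosedPointTo_fromSpecResidueField _ _ (a ≫ q)).symm hab
  exact ⟨n, i', inferInstance, hsnd, ⟨τ.symm ≪≫ (Scheme.Modules.pullbackCongr hfst.symm).app _ ≪≫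
    ((Scheme.Modules.pullbackComp i' π).app _).symm⟩⟩

/-- The condition only depends on the module with its sections up to isomorphism. -/
theorem SpanEmb.congr {M M' : Z.Modules} (e : M ≅ M') {n : ℕ} {t : Fin (n + 1) → Γ(M, ⊤)}
    {t' : Fin (n + 1) → Γ(M', ⊤)} (he : ∀ j, e.hom.app ⊤ (t j) = t' j) (h : SpanEmb pZ M t) : SpanEmb pZ M' t' := by
  obtain ⟨⟨m, i, τ, hm⟩, hspan⟩ := h
  refine ⟨⟨m, i, τ ≪≫ e, hm⟩, fun z => ?_⟩
  obtain ⟨c, hc⟩ := hspan (e.inv.app ⊤ z)
  refine ⟨c, ?_⟩
  have := congrArg (e.hom.app ⊤) hc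
  rw [map_sum] at this
  refine ((congrArg (fun φ => Scheme.Modules.Hom.app φ ⊤ z) e.inv_hom_id).symm.trans this).trans ?_
  exact Finset.sum_congr rfl fun j _ => (Scheme.Modules.Hom.app_smul _ _ _).trans (congrArg _ (he j))

open QCoh PBC TensorProduct in
/-- Fibrewise very ample with vanishing `H¹` on the fibres gives relative very ampleness. -/
theorem isRelVeryAmple {X Y : Scheme.{u}} (f : X ⟶ Y) [IsProper f] [LocallyOfFinitePresentation f] [Flat f]
    {L : X.Modules} (hL : PicF.IsInvertible L)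
    (hva : ∀ y : Y, RelAmple.IsRelVeryAmplePn (f.fiberToSpecResidueField y) ((Scheme.Modules.pullback (f.fiberι y)).obj L))
    (hH1 : ∀ y : Y, Subsingleton (Coh.HH (f.fiber y) ((Scheme.Modules.pullback (f.fiberι y)).obj L) 1)) :
    RelProj.IsRelVeryAmple f L := by
  classical
  have hF : CohB1.IsFP L := QCoh.isFP_of_isFinLocFree (H23.PullPush.isFinLocFree_of_isInvertible hL)
  have hloc : ∀ y : Y, ∃ V : Y.Opens, y ∈ V ∧
      RelProj.IsRelVeryAmple (f ∣_ V) (L.restrict (f ⁻¹ᵁ V).ι) := by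
    intro y
    obtain ⟨V, hV, r, hyr, hgood⟩ :=
      exists_good_nhd f hF (H23.Seesaw.isFlatOver_of_isInvertible f hL) y (Or.inr (hH1 y))
    obtain ⟨hbc, N, _, _, _, _, a, b, hab⟩ := hgood
    let V' := Y.basicOpen r
    refine ⟨V', hyr, ?_⟩
    have hle : f ⁻¹ᵁ V' ≤ f ⁻¹ᵁ V := f.preimage_mono (Y.basicOpen_le r)
    let π := QCoh.overSpec f hV
    letI : ((f ⁻¹ᵁ V : X.Opens) : Scheme.{u}).Over (Spec (CommRingCat.of Γ(Y, V))) := ⟨π⟩
    haveI : IsProper (((f ⁻¹ᵁ V : X.Opens) : Scheme.{u}) ↘ Spec (CommRingCat.of Γ(Y, V))) := (proper_overSpec f hV).1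
    let LV := (Scheme.Modules.pullback (f ⁻¹ᵁ V).ι).obj L
    letI := secModule (Coh.toGlobal π) LV (⊤ : ((f ⁻¹ᵁ V : X.Opens) : Scheme.{u}).Opens)
    let basis := Module.Free.chooseBasis Γ(Y, V) N
    let e := (Fintype.equivFin (Module.Free.ChooseBasisIndex Γ(Y, V) N))
    let σ : Fin (Fintype.card (Module.Free.ChooseBasisIndex Γ(Y, V) N) + 1) → Γ(LV, ⊤) :=
      Fin.snoc (fun k => b (basis (e.symm k))) 0
    let incl : (f ⁻¹ᵁ V' : X.Opens).toScheme ⟶ (f ⁻¹ᵁ V : X.Opens).toScheme := X.homOfLE hle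
    let L₀ := (Scheme.Modules.pullback incl).obj LV
    have hL₀ : PicF.IsInvertible L₀ :=
      PicClLib.isInvertible_pullback _ (PicClLib.isInvertible_pullback _ hL)
    haveI : IsProper (f ∣_ V') := MorphismProperty.of_isPullback (isPullback_morphismRestrict f V').flip ‹IsProper f›
    have hva' : RelAmple.IsRelVeryAmplePn (f ∣_ V') L₀ := by
      refine isRelVeryAmplePn_of_fibres (q := f ∣_ V') hL₀ (fun j => FComplLib.pullTop incl LV (σ j)) fun p => ?_
      let y' : Y := p.1
      have hy' : y' ∈ V := Y.basicOpen_le r p.2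
      let φ := evalV y' hy'
      have hφ : Spec.map (CommRingCat.ofHom φ) ≫ hV.fromSpec = Y.fromSpecResidueField y' := by
        show Spec.map (Y.presheaf.germ V y' hy' ≫ Y.residue y') ≫ _ = _
        rw [Spec.map_comp, Category.assoc, Scheme.fromSpecResidueField]
        exact congrArg (Spec.map (Y.residue y') ≫ ·) (hV.fromSpecStalk_eq_fromSpecStalk hy')
      have hfib : IsPullback (f.fiberι y') (f.fiberToSpecResidueField y') f (Y.fromSpecResidueField y') :=
        IsPullback.of_hasPullback _ _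
      have hpb : IsPullback (f ⁻¹ᵁ V).ι π f hV.fromSpec := isPullback_overSpec hV
      let g₀ : f.fiber y' ⟶ (f ⁻¹ᵁ V : X.Opens) :=
        hpb.lift (f.fiberι y') (f.fiberToSpecResidueField y' ≫ Spec.map (CommRingCat.ofHom φ))
          (by rw [Category.assoc, hφ]; exact hfib.w)
      have hg₀ : g₀ ≫ (f ⁻¹ᵁ V).ι = f.fiberι y' := hpb.lift_fst _ _ _
      have h₀ : IsPullback g₀ (f.fiberToSpecResidueField y') π (Spec.map (CommRingCat.ofHom φ)) :=
        IsPullback.of_right (by rw [hg₀, hφ]; exact hfib) (hpb.lift_snd _ _ _) hpb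
      haveI hiso : IsIso (CohBC.bc0 π (Spec.map (CommRingCat.ofHom φ)) (f.fiberToSpecResidueField y') g₀ h₀.w LV) :=
        hbc _ φ _ g₀ _ h₀ (isUnit_iff_ne_zero.2 fun h0 =>
          (Y.evaluation_ne_zero_iff_mem_basicOpen y' hy' r).2 p.2 h0)
      letI : (f.fiber y').Over (Spec (CommRingCat.of (Y.residueField y'))) := ⟨f.fiberToSpecResidueField y'⟩
      have hsurj := (isIso_bc0_and_surjective_sectionsBC (F := LV) φ g₀ h₀
        (QCoh.isQCoh_pullback _ (QCoh.isQCoh_of_isFP hF))).2 (@IsIso.epi_of_iso _ _ _ _ _ hiso)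
      letI alg : Algebra Γ(Y, V) (Y.residueField y') := φ.toAlgebra
      letI modK : Module (Y.residueField y') Γ((Scheme.Modules.pullback g₀).obj LV, (⊤ : (f.fiber y').Opens)) :=
        secModule (Coh.toGlobal (f.fiberToSpecResidueField y')) ((Scheme.Modules.pullback g₀).obj LV) (⊤ : (f.fiber y').Opens)
      letI modA : Module Γ(Y, V) Γ((Scheme.Modules.pullback g₀).obj LV, (⊤ : (f.fiber y').Opens)) :=
        secModule ((Coh.toGlobal (f.fiberToSpecResidueField y')).comp (algebraMap Γ(Y, V) (Y.residueField y')))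
          ((Scheme.Modules.pullback g₀).obj LV) (⊤ : (f.fiber y').Opens)
      haveI : IsScalarTower Γ(Y, V) (Y.residueField y') Γ((Scheme.Modules.pullback g₀).obj LV, (⊤ : (f.fiber y').Opens)) :=
        IsScalarTower.of_algebraMap_smul fun _ _ => rfl
      let P := Submodule.span (Y.residueField y') (Set.range fun j => FComplLib.pullTop g₀ LV (σ j))
      have hres : ∀ (c : Y.residueField y') (z : Γ(((Scheme.Modules.pullback g₀).obj LV), ⊤)),
          c • z = (show Γ(f.fiber y', ⊤) from Coh.toGlobal (f.fiberToSpecResidueField y') c) • z := fun c z => by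
        show ((f.fiber y').presheaf.map (homOfLE (le_refl (⊤ : (f.fiber y').Opens))).op _) • z = _
        rw [show (homOfLE (le_refl (⊤ : (f.fiber y').Opens))).op = 𝟙 _ from rfl, CategoryTheory.Functor.map_id]
        rfl
      have hlin : ∀ x : Γ(LV, ⊤), sectionsBC φ g₀ h₀ (F := LV) ((1 : Y.residueField y') ⊗ₜ x) =
          FComplLib.pullTop g₀ LV x := fun x => by
        refine (LinearMap.liftBaseChange_tmul _ _ _ _).trans ((one_smul _ _).trans ?_)
        show ((Scheme.Modules.pullback g₀).obj LV).presheaf.map (homOfLE le_top).op (FComplLib.pullTop g₀ LV x) = _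
        rw [show (homOfLE (le_top : (⊤ : (f.fiber y').Opens) ≤ ⊤)).op = 𝟙 _ from rfl, ((Scheme.Modules.pullback g₀).obj LV).presheaf.map_id]
        rfl
      have hmem : ∀ x : Γ(LV, ⊤), FComplLib.pullTop g₀ LV x ∈ P := fun x => by
        have h1 : r • x = b (a x) := (DFunLike.congr_fun hab x).symm
        have hadd : ∀ w : N, sectionsBC φ g₀ h₀ (F := LV) ((1 : Y.residueField y') ⊗ₜ b w) ∈ P := fun w => by
          rw [← basis.sum_repr w, map_sum, TensorProduct.tmul_sum, map_sum]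
          refine Submodule.sum_mem _ fun k _ => ?_
          rw [map_smul, TensorProduct.tmul_smul, ← algebraMap_smul (Y.residueField y') (basis.repr w k), map_smul]
          refine P.smul_mem _ ?_
          rw [hlin]
          refine Submodule.subset_span ⟨(e k).castSucc, ?_⟩
          simp [σ]
        have h2 := hadd (a x)
        rw [← h1, TensorProduct.tmul_smul, ← algebraMap_smul (Y.residueField y') r, map_smul, hlin] at h2
        exact (Submodule.smul_mem_iff P ((Y.evaluation_ne_zero_iff_mem_basicOpen y' hy' r).2 p.2)).1 h2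
      have htop : P = ⊤ := top_le_iff.1 fun z _ => by
        obtain ⟨w, rfl⟩ := hsurj z
        induction w using TensorProduct.induction_on with
        | zero => rw [map_zero]; exact P.zero_mem
        | add u v hu hv => rw [map_add]; exact P.add_mem (hu trivial) (hv trivial)
        | tmul c x =>
          rw [← mul_one c, ← smul_eq_mul, ← TensorProduct.smul_tmul', map_smul, hlin]
          exact P.smul_mem _ (hmem x)
      have hsp₀ : SpanEmb (f.fiberToSpecResidueField y') ((Scheme.Modules.pullback g₀).obj LV) fun j => FComplLib.pullTop g₀ LV (σ j) := by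
        refine ⟨?_, fun z => ?_⟩
        · obtain ⟨m, i, hi, his, ⟨eL⟩⟩ := hva y'
          haveI := hi
          refine ⟨m, i ≫ pullback.fst _ _, ((Scheme.Modules.pullbackComp i _).app _).symm ≪≫ eL.symm ≪≫
            ((Scheme.Modules.pullbackCongr hg₀).app L).symm ≪≫ ((Scheme.Modules.pullbackComp g₀ _).app L).symm,
            fun T u v h1 h2 => (cancel_mono i).1 (pullback.hom_ext ?_ ?_)⟩
          · simpa only [Category.assoc] using h1
          · simp only [Category.assoc, his]; exact h2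
        · obtain ⟨c, hc⟩ := (Submodule.mem_span_range_iff_exists_fun (Y.residueField y')).1
            (htop.ge (show z ∈ ⊤ from trivial))
          exact ⟨c, hc.symm.trans (Finset.sum_congr rfl fun j _ => hres _ _)⟩
      let g : f.fiber y' ⟶ (f ⁻¹ᵁ V' : X.Opens) := IsOpenImmersion.lift (f ⁻¹ᵁ V').ι (f.fiberι y') (by
        rw [Scheme.Opens.range_ι]
        rintro _ ⟨w, rfl⟩
        have hw : f.fiberι y' w ∈ f ⁻¹' {y'} := f.range_fiberι y' ▸ Set.mem_range_self w
        show f (f.fiberι y' w) ∈ V'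
        rw [show f (f.fiberι y' w) = y' from hw]
        exact p.2)
      have hg : g ≫ (f ⁻¹ᵁ V').ι = f.fiberι y' := IsOpenImmersion.lift_fac _ _ _
      let ξ : Spec (Y.residueField y') ⟶ V'.toScheme := IsOpenImmersion.lift V'.ι (Y.fromSpecResidueField y') (by
        rw [Scheme.Opens.range_ι, Scheme.range_fromSpecResidueField]
        exact Set.singleton_subset_iff.2 p.2)
      have hξ : ξ ≫ V'.ι = Y.fromSpecResidueField y' := IsOpenImmersion.lift_fac _ _ _
      have hsq : g ≫ (f ∣_ V') = f.fiberToSpecResidueField y' ≫ ξ := by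
        rw [← cancel_mono V'.ι, Category.assoc, Category.assoc, morphismRestrict_ι, ← Category.assoc, hg, hξ]
        exact hfib.w
      have hgi : g ≫ incl = g₀ := by
        rw [← cancel_mono (f ⁻¹ᵁ V).ι, Category.assoc, X.homOfLE_ι, hg, hg₀]
      refine ⟨Y.residueField y', inferInstance, ξ, f.fiber y', g, f.fiberToSpecResidueField y',
        IsPullback.of_right (by rw [hg, hξ]; exact hfib) hsq (isPullback_morphismRestrict f V').flip,
        fun {T} c => ⟨c ≫ Spec.map (V'.ι.residueFieldMap p), ?_⟩, mono_of_mono_fac hξ, ?_, ?_⟩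
      · rw [← cancel_mono V'.ι, Category.assoc, Category.assoc, hξ, Category.assoc]
        exact congrArg (c ≫ ·) (Scheme.Hom.SpecMap_residueFieldMap_fromSpecResidueField V'.ι p)
      · refine ⟨IsLocalRing.closedPoint _, V'.ι.injective ?_⟩
        rw [← Scheme.Hom.comp_apply, hξ]
        exact Scheme.fromSpecResidueField_apply _ _
      · refine hsp₀.congr (((Scheme.Modules.pullbackCongr hgi).app LV).symm ≪≫
          ((Scheme.Modules.pullbackComp g incl).app LV).symm) fun j => ?_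
        show ((Scheme.Modules.pullbackComp g incl).inv.app LV).app ⊤
          (((Scheme.Modules.pullbackCongr hgi).inv.app LV).app ⊤ (FComplLib.pullTop g₀ LV (σ j))) = _
        rw [← FComplLib.pullTop_congr hgi LV (σ j), ← FComplLib.pullTop_comp]
        exact (congrArg (((Scheme.Modules.pullbackComp g incl).inv.app LV).app ⊤)
          (congrArg (fun φ => Scheme.Modules.Hom.app φ ⊤ _) ((Scheme.Modules.pullbackCongr hgi).hom_inv_id_app LV))).trans
          (congrArg (fun φ => Scheme.Modules.Hom.app φ ⊤ _) ((Scheme.Modules.pullbackComp g incl).hom_inv_id_app LV))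
    exact VeryAmpleX.isRelVeryAmple_of_iso
      ((Scheme.Modules.pullbackComp incl (f ⁻¹ᵁ V).ι).app L ≪≫
        (Scheme.Modules.pullbackCongr (X.homOfLE_ι hle)).app L ≪≫
        ((Scheme.Modules.restrictFunctorIsoPullback (f ⁻¹ᵁ V').ι).app L).symm)
      (VeryAmpleX.isRelVeryAmple_of_isRelVeryAmplePn hva')
  choose V hyV hV using hloc
  exact VeryAmpleX.isRelVeryAmple_local hL V (top_le_iff.1 fun y _ => Opens.mem_iSup.2 ⟨y, hyV y⟩) hV

end Groth.Agent.FibVeryAmple
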