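import Groth.Agent.Lib.CompatDesc

/-!
# Representability of compatible families over schemes over the base
-/

universe w u

set_option autoImplicit false
set_option linter.style.haveILetI false
set_option linter.unusedSectionVars false
set_option backward.isDefEq.respectTransparency false
set_option backward.isDefEq.respectTransparency.types false

open CategoryTheory CategoryTheory.Limits AlgebraicGeometry Desc

namespace Groth.Agent.DescLib

variable {S : Scheme.{u}} {ι : Type w} {X : ι → Scheme.{u}} {f : ∀ i, X i ⟶ S} {D : SchDDFam f}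

/-- Over a scheme factoring through a member the datum is represented by the pullback of that member. -/
theorem exists_rep_point {V : Scheme.{u}} (s : V ⟶ S) {i : ι} (y : V ⟶ X i) (hy : y ≫ f i = s) :
    ∃ c₀ : Compat D ((Over.mk (pullback.snd (D.obj i).hom y)).hom ≫ s),
      ∀ ⦃T : Scheme.{u}⦄ (x : T ⟶ V) (c : Compat D (x ≫ s)),
        ∃! p : Lifts (Over.mk (pullback.snd (D.obj i).hom y)) x,
          c₀.res p.1 (x ≫ s) (by rw [← Category.assoc, p.2]) = c := by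
  subst hy
  let z : pullback (D.obj i).hom y ⟶ X i := pullback.snd (D.obj i).hom y ≫ y
  let a : Lifts (D.obj i) z := ⟨pullback.fst (D.obj i).hom y, pullback.condition⟩
  refine ⟨Compat.ofPoint D a ((Over.mk (pullback.snd (D.obj i).hom y)).hom ≫ y ≫ f i) (Category.assoc _ _ _),
    fun T x c => ?_⟩
  have hxy : (x ≫ y) ≫ f i = 𝟙 T ≫ x ≫ y ≫ f i := by rw [Category.id_comp, Category.assoc]
  have hev : ∀ (p : Lifts (Over.mk (pullback.snd (D.obj i).hom y)) x)
      (hp : p.1 ≫ (Over.mk (pullback.snd (D.obj i).hom y)).hom ≫ y ≫ f i = x ≫ y ≫ f i),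
      (((Compat.ofPoint D a ((Over.mk (pullback.snd (D.obj i).hom y)).hom ≫ y ≫ f i) (Category.assoc _ _ _)).res p.1
        (x ≫ y ≫ f i) hp).pt (𝟙 T) (x ≫ y) hxy).1 = p.1 ≫ pullback.fst (D.obj i).hom y := by
    intro p hp
    have key : ∀ (t : T ⟶ pullback (D.obj i).hom y) (h : (x ≫ y) ≫ f i = t ≫ z ≫ f i), t = p.1 →
        (D.φ (t ≫ z) (x ≫ y) (by rw [h, Category.assoc]) ⟨t ≫ a.1, by rw [Category.assoc, a.2]⟩).1 =
          p.1 ≫ pullback.fst (D.obj i).hom y := by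
      rintro t h rfl
      have e : p.1 ≫ z = x ≫ y := by rw [← Category.assoc]; exact congrArg (· ≫ y) p.2
      have k2 : ∀ (w : T ⟶ X i) (hw : w ≫ f i = (x ≫ y) ≫ f i) (v : Lifts (D.obj i) w), w = x ≫ y →
          (D.φ w (x ≫ y) hw v).1 = v.1 := by
        rintro w hw v rfl
        rw [D.φ_self]
      exact k2 _ _ _ e
    exact key (𝟙 T ≫ p.1) (by rw [Category.id_comp, Category.assoc]; exact ((congrArg (p.1 ≫ ·) (Category.assoc _ _ _)).trans hp).symm)
      (Category.id_comp _)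
  let v : Lifts (D.obj i) (x ≫ y) := c.pt (𝟙 T) (x ≫ y) hxy
  refine ⟨⟨pullback.lift v.1 x v.2, pullback.lift_snd _ _ _⟩, ?_, fun p hp => ?_⟩
  · refine (Compat.eq_ofPoint _ (x ≫ y) hxy).symm.trans (Eq.trans ?_ (Compat.eq_ofPoint c (x ≫ y) hxy))
    congr 1
    exact Subtype.ext ((hev _ _).trans (pullback.lift_fst _ _ _))
  · refine Subtype.ext (pullback.hom_ext ?_ (p.2.trans (pullback.lift_snd _ _ _).symm))
    rw [pullback.lift_fst]
    exact (hev p _).symm.trans (congrArg (fun d : Compat D (x ≫ y ≫ f i) => (d.pt (𝟙 T) (x ≫ y) hxy).1) hp)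

/-- Two representing objects are isomorphic. -/
theorem nonempty_iso_of_reps {V : Scheme.{u}} {s : V ⟶ S} {U U' : Over V} {c₀ : Compat D (U.hom ≫ s)}
    {c₁ : Compat D (U'.hom ≫ s)}
    (hu : ∀ ⦃T : Scheme.{u}⦄ (x : T ⟶ V) (c : Compat D (x ≫ s)),
      ∃! p : Lifts U x, c₀.res p.1 (x ≫ s) (by rw [← Category.assoc, p.2]) = c)
    (hu' : ∀ ⦃T : Scheme.{u}⦄ (x : T ⟶ V) (c : Compat D (x ≫ s)),
      ∃! p : Lifts U' x, c₁.res p.1 (x ≫ s) (by rw [← Category.assoc, p.2]) = c) :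
    Nonempty (U ≅ U') := by
  obtain ⟨a, ha, -⟩ := hu' U.hom c₀
  obtain ⟨b, hb, -⟩ := hu U'.hom c₁
  have h₁ : a.1 ≫ b.1 = 𝟙 _ := by
    obtain ⟨p, -, huniq⟩ := hu U.hom c₀
    have e1 := huniq ⟨a.1 ≫ b.1, by rw [Category.assoc, b.2, a.2]⟩ (by
      show c₀.res (a.1 ≫ b.1) _ _ = c₀
      rw [← Compat.res_res c₀ b.1 (U'.hom ≫ s) (by rw [← Category.assoc, b.2]) a.1 (U.hom ≫ s)
        (by rw [← Category.assoc, a.2]) (a.1 ≫ b.1) rfl, hb]
      exact ha)
    have e2 := huniq ⟨𝟙 _, Category.id_comp _⟩ (Compat.res_id _ _)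
    exact congrArg Subtype.val (e1.trans e2.symm)
  have h₂ : b.1 ≫ a.1 = 𝟙 _ := by
    obtain ⟨p, -, huniq⟩ := hu' U'.hom c₁
    have e1 := huniq ⟨b.1 ≫ a.1, by rw [Category.assoc, a.2, b.2]⟩ (by
      show c₁.res (b.1 ≫ a.1) _ _ = c₁
      rw [← Compat.res_res c₁ a.1 (U.hom ≫ s) (by rw [← Category.assoc, a.2]) b.1 (U'.hom ≫ s)
        (by rw [← Category.assoc, b.2]) (b.1 ≫ a.1) rfl, ha]
      exact hb)
    have e2 := huniq ⟨𝟙 _, Category.id_comp _⟩ (Compat.res_id _ _)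
    exact congrArg Subtype.val (e1.trans e2.symm)
  exact ⟨Over.isoMk ⟨a.1, b.1, h₁, h₂⟩ a.2⟩

/-- Restriction of a representing object. -/
theorem exists_rep_restrict {V V' : Scheme.{u}} {s : V ⟶ S} {U : Over V} {c₀ : Compat D (U.hom ≫ s)}
    (hu : ∀ ⦃T : Scheme.{u}⦄ (x : T ⟶ V) (c : Compat D (x ≫ s)),
      ∃! p : Lifts U x, c₀.res p.1 (x ≫ s) (by rw [← Category.assoc, p.2]) = c)
    (k : V' ⟶ V) (s' : V' ⟶ S) (hs : k ≫ s = s') :
    ∃ c₁ : Compat D ((Over.mk (pullback.snd U.hom k)).hom ≫ s'),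
      ∀ ⦃T : Scheme.{u}⦄ (x : T ⟶ V') (c : Compat D (x ≫ s')),
        ∃! p : Lifts (Over.mk (pullback.snd U.hom k)) x, c₁.res p.1 (x ≫ s') (by rw [← Category.assoc, p.2]) = c := by
  subst hs
  have hb : pullback.fst U.hom k ≫ U.hom ≫ s = (Over.mk (pullback.snd U.hom k)).hom ≫ k ≫ s :=
    pullback.condition_assoc _
  refine ⟨c₀.res (pullback.fst U.hom k) _ hb, fun T x c => ?_⟩
  have hx : 𝟙 T ≫ x ≫ k ≫ s = (x ≫ k) ≫ s := by rw [Category.id_comp, Category.assoc]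
  have hx' : 𝟙 T ≫ (x ≫ k) ≫ s = x ≫ k ≫ s := by rw [Category.id_comp, Category.assoc]
  obtain ⟨q, hq, huniq⟩ := hu (x ≫ k) (c.res (𝟙 T) _ hx)
  have hl : ∀ {p : T ⟶ pullback U.hom k}, p ≫ pullback.snd U.hom k = x →
      (p ≫ pullback.fst U.hom k) ≫ U.hom ≫ s = x ≫ k ≫ s := fun hp => by
    rw [Category.assoc, hb, ← Category.assoc]
    exact congrArg (· ≫ k ≫ s) hp
  refine ⟨⟨pullback.lift q.1 x q.2, pullback.lift_snd _ _ _⟩, ?_, fun p hp => ?_⟩
  · show Compat.res (c₀.res _ _ hb) _ _ _ = c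
    rw [Compat.res_res c₀ _ _ hb _ _ _ q.1 (pullback.lift_fst _ _ _) (by rw [← Category.assoc, q.2, Category.assoc])]
    have := congrArg (fun d : Compat D ((x ≫ k) ≫ s) => d.res (𝟙 T) (x ≫ k ≫ s) hx') hq
    rw [Compat.res_res c₀ _ _ _ _ _ _ q.1 (Category.id_comp _) (by rw [← Category.assoc, q.2, Category.assoc]),
      Compat.res_res c _ _ hx _ _ _ (𝟙 T) (Category.comp_id _) (Category.id_comp _), Compat.res_id] at this
    exact this
  · have hpx : p.1 ≫ pullback.snd U.hom k = x := p.2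
    have e := huniq ⟨p.1 ≫ pullback.fst U.hom k, by rw [Category.assoc, pullback.condition, ← Category.assoc, hpx]⟩ (by
      have := congrArg (fun d : Compat D (x ≫ k ≫ s) => d.res (𝟙 T) ((x ≫ k) ≫ s) hx) hp
      rw [Compat.res_res c₀ _ _ hb _ _ _ (p.1 ≫ pullback.fst U.hom k) rfl (hl hpx),
        Compat.res_res c₀ _ _ (hl hpx) _ _ _ (p.1 ≫ pullback.fst U.hom k) (Category.id_comp _)
          ((hl hpx).trans (Category.assoc _ _ _).symm)] at this
      exact this)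
    refine Subtype.ext (pullback.hom_ext ?_ (hpx.trans (pullback.lift_snd _ _ _).symm))
    rw [pullback.lift_fst]
    exact congrArg Subtype.val e

/-- Representability restricts along morphisms. -/
theorem RepOn.comp {V V' : Scheme.{u}} {s : V ⟶ S} (h : RepOn D s) (k : V' ⟶ V) : RepOn D (k ≫ s) := by
  obtain ⟨U, c₀, hu⟩ := h
  obtain ⟨c₁, hc⟩ := exists_rep_restrict hu k _ rfl
  exact ⟨_, c₁, hc⟩

variable (hcov : ∀ {T : Scheme.{u}} (x : T ⟶ S), factorSieve f x ∈ Scheme.fpqcTopology T)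

include hcov in
/-- Representability is Zariski local. -/
theorem repOn_of_local {V : Scheme.{u}} (s : V ⟶ S) {κ : Type u} {W : κ → Scheme.{u}} (u₀ : ∀ a, W a ⟶ V)
    [∀ a, IsOpenImmersion (u₀ a)] (hW : ∀ x : V, ∃ a, x ∈ Set.range (u₀ a))
    (h : ∀ a, RepOn D (u₀ a ≫ s)) : RepOn D s := by
  let f' : ∀ i, pullback (f i) s ⟶ V := fun i => pullback.snd (f i) s
  have w : ∀ i, pullback.fst (f i) s ≫ f i = f' i ≫ s := fun i => pullback.condition
  have hcov' : ∀ {T : Scheme.{u}} (x : T ⟶ V), factorSieve f' x ∈ Scheme.fpqcTopology T := by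
    intro T x
    refine Scheme.fpqcTopology.superset_covering ?_ (hcov (x ≫ s))
    rintro T' t ⟨i, y, hy⟩
    exact ⟨i, pullback.lift y (t ≫ x) (by rw [hy, Category.assoc]), pullback.lift_snd _ _ _⟩
  refine repOn_of_rep_pull w hcov' (rep_of_local _ (fun a => (u₀ a).opensRange) hW fun a => ?_)
  have h' : RepOn D ((u₀ a).opensRange.ι ≫ s) := by
    have e : (u₀ a).opensRange.ι = (u₀ a).isoOpensRange.inv ≫ u₀ a := by simp
    rw [e, Category.assoc]
    exact (h a).comp _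
  obtain ⟨U, c₀, hu⟩ := h'
  refine ⟨U, c₀.pull w (Category.assoc _ _ _), fun T x c' => ?_⟩
  obtain ⟨c, rfl⟩ := Compat.pull_surjective w hcov' (x := x ≫ (u₀ a).opensRange.ι) (Category.assoc _ _ _) c'
  obtain ⟨p, hp, huniq⟩ := hu x c
  have hj : ∀ q : Lifts U x, q.1 ≫ U.hom ≫ (u₀ a).opensRange.ι ≫ s = x ≫ (u₀ a).opensRange.ι ≫ s :=
    fun q => by rw [← Category.assoc, q.2]
  have hj' : ∀ q : Lifts U x, q.1 ≫ U.hom ≫ (u₀ a).opensRange.ι = x ≫ (u₀ a).opensRange.ι :=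
    fun q => by rw [← Category.assoc, q.2]
  refine ⟨p, ?_, fun q hq => huniq q (Compat.pull_injective w hcov' (x := x ≫ (u₀ a).opensRange.ι) (Category.assoc _ _ _) ?_)⟩
  · exact (Compat.pull_res w (Category.assoc _ _ _) c₀ p.1 _ (hj' p) _ (hj p) (Category.assoc _ _ _)).symm.trans
      (congrArg (Compat.pull w (Category.assoc _ _ _)) hp)
  · exact (Compat.pull_res w (Category.assoc _ _ _) c₀ q.1 _ (hj' q) _ (hj q) (Category.assoc _ _ _)).trans hq

end Groth.Agent.DescLib
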