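import Groth.Agent.Lib.TopDiff
import Groth.Agent.S14419
import Groth.Agent.AmpleVan.SpreadFibre
import Groth.Agent.GrpSchLib.IsogenyFibre
import Groth.Agent.H23.P1Charts
import Groth.Prelude.Def_RedSub

/-! Modules trivial on the fibres of a smooth projective family. -/

set_option linter.style.haveILetI false
set_option backward.isDefEq.respectTransparency false
set_option backward.isDefEq.respectTransparency.types false

universe u

open CategoryTheory CategoryTheory.Limits AlgebraicGeometry TopologicalSpace Opposite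

noncomputable section

namespace Groth.Agent.TrivFibre

open Groth.Agent.InvX Groth.Agent.AModX

theorem isProper_of_isLocallyProjective {X S : Scheme.{u}} (f : X ⟶ S)
    (h : RedSub.IsLocallyProjective (Over.mk f)) : IsProper f := by
  choose V hV n e he hw using h
  refine IsZariskiLocalAtTarget.of_iSup_eq_top (P := @IsProper) V (top_le_iff.1 fun s _ => Opens.mem_iSup.2 ⟨s, hV s⟩)
    fun s => ?_
  haveI := he s
  haveI : IsProper (CohB1.ProjSpaceOver.toBase (n s) (V s : Scheme.{u})) := by
    haveI : IsProper (CohB1.ProjSpace.toSpec (n s) (ULift.{u} ℤ)) := PnCoh.Chow.isProper_toSpec _ _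
    exact MorphismProperty.pullback_snd _ _ inferInstance
  have h1 : IsProper (Red.bc (V s).ι (Over.mk f)).hom := by
    rw [← hw s]
    exact MorphismProperty.comp_mem @IsProper _ _ inferInstance inferInstance
  have h2 : IsProper (pullback.snd f (V s).ι) := h1
  rw [← pullbackRestrictIsoRestrict_hom_morphismRestrict f (V s)] at h2
  exact (MorphismProperty.cancel_left_of_respectsIso @IsProper _ _).1 h2

/-- A trivialisation gives a frame. -/
theorem exists_isFrame {X : Scheme.{u}} {L : X.Modules} {U : X.Opens}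
    (φ : L.restrict (Scheme.Opens.ι U) ≅ Coh.structureModule (U : Scheme.{u})) : ∃ e : Γ(L, U), IsFrame e := by
  let e' : Γ(L.restrict (Scheme.Opens.ι U), ⊤) := φ.inv.app ⊤ (1 : Γ(U.toScheme, ⊤))
  refine ⟨res L (le_of_eq U.ι_image_top.symm) (show Γ(L, (Scheme.Opens.ι U) ''ᵁ ⊤) from e'), fun V hV => ?_⟩
  obtain ⟨V', rfl⟩ : ∃ V', (Scheme.Opens.ι U) ''ᵁ V' = V := ⟨(Scheme.Opens.ι U) ⁻¹ᵁ V, by
    rw [Scheme.Hom.image_preimage_eq_opensRange_inf, Scheme.Opens.opensRange_ι]
    exact inf_eq_right.mpr hV⟩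
  have hb : Function.Bijective (φ.inv.app V') :=
    (ConcreteCategory.isIso_iff_bijective _).1 (Scheme.Modules.Hom.isIso_iff_isIso_app.1 inferInstance V')
  have key : ∀ r : Γ(X, (Scheme.Opens.ι U) ''ᵁ V'), (show Γ(L.restrict (Scheme.Opens.ι U), V') from
      r • res L (hV : (Scheme.Opens.ι U) ''ᵁ V' ≤ U) (res L (le_of_eq U.ι_image_top.symm)
        (show Γ(L, (Scheme.Opens.ι U) ''ᵁ ⊤) from e'))) = φ.inv.app V' (((Scheme.Opens.ι U).appIso V').hom r) := by
    intro r
    have h1 : φ.inv.app V' (1 : Γ(U.toScheme, V')) = res (L.restrict (Scheme.Opens.ι U)) le_top e' := by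
      rw [← app_res]
      exact congrArg (φ.inv.app V') (map_one (resR (le_top : V' ≤ ⊤))).symm
    conv_rhs => rw [show ((Scheme.Opens.ι U).appIso V').hom r = ((Scheme.Opens.ι U).appIso V').hom r • (1 : Γ(U.toScheme, V')) from
      (mul_one _).symm]
    erw [Scheme.Modules.Hom.app_smul, h1]
    rw [res_res]
    show r • res L ((Scheme.Opens.ι U).image_mono (le_top : V' ≤ ⊤)) (show Γ(L, (Scheme.Opens.ι U) ''ᵁ ⊤) from e') = ((Scheme.Opens.ι U).appIso V').inv.hom (((Scheme.Opens.ι U).appIso V').hom r) •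
      res L ((Scheme.Opens.ι U).image_mono (le_top : V' ≤ ⊤)) (show Γ(L, (Scheme.Opens.ι U) ''ᵁ ⊤) from e')
    rw [Iso.hom_inv_id_apply]
  have he2 : (fun r : Γ(X, (Scheme.Opens.ι U) ''ᵁ V') => (show Γ(L.restrict (Scheme.Opens.ι U), V') from
      r • res L (hV : (Scheme.Opens.ι U) ''ᵁ V' ≤ U) (res L (le_of_eq U.ι_image_top.symm)
        (show Γ(L, (Scheme.Opens.ι U) ''ᵁ ⊤) from e')))) = (φ.inv.app V') ∘ ((Scheme.Opens.ι U).appIso V').hom := funext key
  have hiso : Function.Bijective ((Scheme.Opens.ι U).appIso V').hom :=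
    (ConcreteCategory.isIso_iff_bijective _).1 inferInstance
  exact (congrArg Function.Bijective he2).mpr (hb.comp hiso)

/-- Isomorphic first arguments give isomorphic sheaf homs. -/
def homCongr {X : Scheme.{u}} {M M' : X.Modules} (e : M ≅ M') (N : X.Modules) :
    (SheafHomX.hom M').obj N ≅ (SheafHomX.hom M).obj N where
  hom := (SheafHomX.homMap e.hom).app N
  inv := (SheafHomX.homMap e.inv).app N
  hom_inv_id := by rw [← SheafHomX.homMap_comp, e.inv_hom_id, SheafHomX.homMap_id]
  inv_hom_id := by rw [← SheafHomX.homMap_comp, e.hom_inv_id, SheafHomX.homMap_id]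

/-- With vanishing first cohomology on the fibres, fibrewise triviality is local triviality on the base. -/
theorem isIso_counit_of_trivial {X S : Scheme.{u}} [IsLocallyNoetherian S] (f : X ⟶ S) [IsProper f] [Smooth f]
    [GeometricallyConnected f] (L : X.Modules) (hL : PicF.IsInvertible L)
    (htriv : ∀ s : ↥S, Nonempty ((Scheme.Modules.pullback (f.fiberι s)).obj L ≅
      Coh.structureModule (f.fiber s)))
    (hH1 : ∀ s : ↥S, Subsingleton (Coh.HH (f.fiber s) (Coh.structureModule (f.fiber s)) 1)) :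
    IsIso ((Scheme.Modules.pullbackPushforwardAdjunction f).counit.app L) := by
  haveI := GrpSchLib.IsogenyFibre.geometricallyReduced_of_smooth' f
  haveI : IsLocallyNoetherian X := LocallyOfFiniteType.isLocallyNoetherian f
  have hc := H23.RigidGamma.constFibres f
  have h0 : ∀ y : S, Module.finrank (S.residueField y) Γ(f.fiber y, ⊤) = 1 := fun y => by
    have hb : Function.Bijective (algebraMap (S.residueField y) Γ(f.fiber y, ⊤)) := by
      have hcy : Function.Bijective (f.fiberToSpecResidueField y).appTop := hc y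
      have h2 := hcy.comp (ConcreteCategory.bijective_of_isIso (Scheme.ΓSpecIso (S.residueField y)).inv)
      convert h2 using 1
      rfl
    exact (LinearEquiv.ofBijective (Algebra.linearMap (S.residueField y) Γ(f.fiber y, ⊤)) hb).finrank_eq.symm.trans
      (Module.finrank_self _)
  refine (S16759.of_local f (S16759.bijective_app f h0) L fun y => ?_).2
  obtain ⟨t⟩ := htriv y
  let O := Coh.structureModule X
  haveI : IsIso (SheafOfModules.pullbackObjUnitToUnit (f.fiberι y).toRingCatSheafHom) := inferInstance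
  let u : CohIII.fiberMod f O y ≅ Coh.structureModule (f.fiber y) :=
    @asIso _ _ _ _ (show (Scheme.Modules.pullback (f.fiberι y)).obj O ⟶ Coh.structureModule (f.fiber y) from
      SheafOfModules.pullbackObjUnitToUnit (f.fiberι y).toRingCatSheafHom) ‹_›
  have hfree : ∀ {M : X.Modules}, PicF.IsInvertible M → FlatMod.IsFinLocFree M := fun hM x =>
    let ⟨W, hx, he⟩ := InvEnd.isFinLocFreeOfRank_one hM x; ⟨W, 1, hx, he⟩
  obtain ⟨U, hyU, ⟨ψ⟩⟩ := AmpleVan.exists_iso_near_fibre f y O L (hfree InvX.isInvertible_structureModule)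
    (hfree hL) (u ≪≫ t.symm) (by
      let e := (homCongr u (CohIII.fiberMod f L y)).symm ≪≫
        (SheafHomX.unitIso (f.fiber y)).app _ ≪≫ t
      haveI := hH1 y
      exact AmpleVan.subsingleton_of_iso e.symm 1 (hH1 y))
  exact ⟨U, hyU, exists_isFrame (ψ.symm ≪≫
    Scheme.Modules.restrictUnitIso (Scheme.Opens.ι (f ⁻¹ᵁ U)))⟩

end Groth.Agent.TrivFibre
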